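import Mathlib
import Cfsg.Agent.H36.SLT
import Cfsg.Agent.H93.TransvGen

/-!
Generation of `SL_n(F)` by three conjugate regular unipotent elements: the general part.
-/

set_option autoImplicit false

namespace Cfsg.Agent.H42.ThreeUnip

open Matrix Cfsg.Agent.H36.SLT

section General

variable {F : Type*} [Field F] {ι : Type} [Fintype ι] [DecidableEq ι]

/-- the transvection with vector `a` and functional `φ` lies in `G` -/
def Has (G : Subgroup (SpecialLinearGroup ι F)) (a φ : ι → F) : Prop :=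
  ∃ h : φ ⬝ᵥ a = 0, T a φ h ∈ G

variable {G : Subgroup (SpecialLinearGroup ι F)}

theorem Has.congr {a b φ ψ : ι → F} (h : Has G a φ) (h1 : a = b) (h2 : φ = ψ) : Has G b ψ := by
  subst h1; subst h2; exact h

theorem Has.add_left {a b φ : ι → F} (h1 : Has G a φ) (h2 : Has G b φ) : Has G (a + b) φ := by
  obtain ⟨h, hm⟩ := h1
  obtain ⟨h', hm'⟩ := h2
  refine ⟨by rw [dotProduct_add, h, h', add_zero], ?_⟩
  rw [← T_mul_same_right a b φ h h']
  exact G.mul_mem hm hm'

theorem Has.add_right {a φ ψ : ι → F} (h1 : Has G a φ) (h2 : Has G a ψ) : Has G a (φ + ψ) := by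
  obtain ⟨h, hm⟩ := h1
  obtain ⟨h', hm'⟩ := h2
  refine ⟨by rw [add_dotProduct, h, h', add_zero], ?_⟩
  rw [← T_mul_same_left a φ ψ h h']
  exact G.mul_mem hm hm'

theorem Has.neg_left {a φ : ι → F} (h1 : Has G a φ) : Has G (-a) φ := by
  obtain ⟨h, hm⟩ := h1
  refine ⟨by rw [dotProduct_neg, h, neg_zero], ?_⟩
  rw [← T_inv' a φ h]
  exact G.inv_mem hm

theorem Has.neg_right {a φ : ι → F} (h1 : Has G a φ) : Has G a (-φ) := by
  obtain ⟨h, hm⟩ := h1
  refine ⟨by rw [neg_dotProduct, h, neg_zero], ?_⟩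
  rw [← T_inv a φ h]
  exact G.inv_mem hm

theorem Has.zero_left (φ : ι → F) : Has G 0 φ := by
  refine ⟨dotProduct_zero _, ?_⟩
  rw [T_zero_left]
  exact G.one_mem

theorem Has.zero_right (a : ι → F) : Has G a 0 := by
  refine ⟨zero_dotProduct _, ?_⟩
  rw [T_zero_right]
  exact G.one_mem

theorem Has.smul_right {a φ : ι → F} {c : F} (h1 : Has G (c • a) φ) : Has G a (c • φ) := by
  obtain ⟨h, hm⟩ := h1
  have h' : (c • φ) ⬝ᵥ a = 0 := by rw [smul_dotProduct, ← dotProduct_smul, h]
  refine ⟨h', ?_⟩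
  rw [← T_smul c a φ h h']
  exact hm

theorem Has.smul_left {a φ : ι → F} {c : F} (h1 : Has G a (c • φ)) : Has G (c • a) φ := by
  obtain ⟨h, hm⟩ := h1
  have h' : φ ⬝ᵥ (c • a) = 0 := by rw [dotProduct_smul, ← smul_dotProduct, h]
  refine ⟨h', ?_⟩
  rw [T_smul c a φ h' h]
  exact hm

theorem Has.conj {g : SpecialLinearGroup ι F} (hg : g ∈ G) {a φ : ι → F} (h1 : Has G a φ) :
    Has G ((g : Matrix ι ι F) *ᵥ a) (φ ᵥ* ((g⁻¹ : SpecialLinearGroup ι F) : Matrix ι ι F)) := by
  obtain ⟨h, hm⟩ := h1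
  refine ⟨by rw [dot_conj, h], ?_⟩
  rw [← conj_T g a φ h]
  exact G.mul_mem (G.mul_mem hg hm) (G.inv_mem hg)

/-- The commutator of two transvections. -/
theorem Has.comm {a b φ ψ : ι → F} (h1 : Has G a φ) (h2 : Has G b ψ) (h : φ ⬝ᵥ b = 0) :
    Has G ((ψ ⬝ᵥ a) • b) φ := by
  obtain ⟨h', hm⟩ := h1
  have h3 := h2.conj hm
  rw [T_mulVec, h, zero_smul, add_zero, T_inv, vecMul_T] at h3
  have h4 := (h2.neg_right.add_right h3)
  rw [smul_neg, ← neg_smul, neg_add_cancel_left] at h4
  have h5 := h4.smul_left.neg_left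
  rwa [neg_smul, neg_neg] at h5

/-- All transvections with functional `φ` lie in `G`. -/
def Full (G : Subgroup (SpecialLinearGroup ι F)) (φ : ι → F) : Prop :=
  ∀ a : ι → F, φ ⬝ᵥ a = 0 → Has G a φ

theorem Full.zero : Full G 0 := fun a _ => Has.zero_right a

theorem Full.smul {φ : ι → F} (h : Full G φ) (c : F) : Full G (c • φ) := by
  intro a ha
  by_cases hc : c = 0
  · rw [hc, zero_smul]; exact Has.zero_right a
  · apply Has.smul_right
    apply h
    rw [dotProduct_smul, ← smul_dotProduct, ha]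

theorem Full.conj {g : SpecialLinearGroup ι F} (hg : g ∈ G) {φ : ι → F} (h : Full G φ) :
    Full G (φ ᵥ* (g : Matrix ι ι F)) := by
  intro a ha
  rw [← dotProduct_mulVec] at ha
  have h1 := (h _ ha).conj (G.inv_mem hg)
  have e : ((g⁻¹ : SpecialLinearGroup ι F) : Matrix ι ι F) * (g : Matrix ι ι F) = 1 :=
    congrArg (fun A : SpecialLinearGroup ι F => (A : Matrix ι ι F)) (inv_mul_cancel g)
  refine h1.congr ?_ ?_
  · rw [mulVec_mulVec]
    exact (congrArg (fun M => M *ᵥ a) e).trans (one_mulVec a)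
  · rw [inv_inv]

theorem Full.add {φ ψ : ι → F} (h : Full G φ) (h' : Full G ψ) : Full G (φ + ψ) := by
  by_cases h0 : φ = 0
  · rw [h0, zero_add]; exact h'
  · by_cases h1 : ∃ c : F, ψ = c • φ
    · obtain ⟨c, rfl⟩ := h1
      have : φ + c • φ = (1 + c) • φ := by rw [add_smul, one_smul]
      rw [this]
      exact h.smul _
    · push Not at h1
      obtain ⟨a, ha, ha'⟩ := exists_dot_eq φ ψ h0 h1 0 1
      obtain ⟨h2, hm⟩ := h a ha
      have h3 := h'.conj hm
      rw [vecMul_T, ha', one_smul, add_comm] at h3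
      exact h3

theorem Full.neg {φ : ι → F} (h : Full G φ) : Full G (-φ) := by
  have := h.smul (-1)
  rwa [neg_smul, one_smul] at this

/-- A subgroup of `SL` with all functionals full is everything. -/
theorem eq_top [Nontrivial ι] (h : ∀ φ : ι → F, Full G φ) : G = ⊤ := by
  rw [eq_top_iff]
  intro A _
  have htr : ∀ (i j : ι) (hij : i ≠ j) (a : F), SpecialLinearGroup.transvection hij a ∈ G := by
    intro i j hij a
    have h0 : (Pi.single j a : ι → F) ⬝ᵥ (Pi.single i 1) = 0 := by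
      rw [single_dotProduct, Pi.single_eq_of_ne hij.symm, mul_zero]
    obtain ⟨h1, h2⟩ := h _ _ h0
    have : SpecialLinearGroup.transvection hij a = T (Pi.single i 1) (Pi.single j a) h1 := by
      apply ext'
      rw [coe_T]
      have := Cfsg.Agent.H93.transvection_eq_tvM i j a
      exact this
    rw [this]
    exact h2
  refine SpecialLinearGroup.diagonal_transvection_induction' (fun A => A ∈ G) A ?_ ?_ ?_
  · intro i j hij c hc
    show _ ∈ G
    rw [Cfsg.Agent.H93.diag2n_eq]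
    exact G.mul_mem (G.mul_mem (G.mul_mem (G.mul_mem (G.mul_mem (htr _ _ _ _) (htr _ _ _ _))
      (htr _ _ _ _)) (htr _ _ _ _)) (htr _ _ _ _)) (htr _ _ _ _)
  · exact htr
  · exact fun A B hA hB => G.mul_mem hA hB

/-- If all basis functionals are full then everything is. -/
theorem full_all (h : ∀ i : ι, Full G (Pi.single i (1 : F))) (φ : ι → F) : Full G φ := by
  have h1 : φ = ∑ i, φ i • (Pi.single i (1 : F) : ι → F) := by
    ext j
    simp [Finset.sum_apply, Pi.single_apply]
  rw [h1]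
  exact Finset.sum_induction _ (Full G) (fun _ _ => Full.add) Full.zero (fun i _ => (h i).smul _)

end General

section Matrices

variable {F : Type*} [Field F]

/-- the upper unitriangular Jordan block -/
def Um (F : Type*) [Field F] (n : ℕ) : Matrix (Fin n) (Fin n) F :=
  fun i j => if j = i then 1 else if (j : ℕ) = i + 1 then 1 else 0

/-- a lower unitriangular Jordan block -/
def Vm {n : ℕ} (c : Fin n → F) : Matrix (Fin n) (Fin n) F :=
  fun i j => if j = i then 1 else if (i : ℕ) = j + 1 then c j else 0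

variable {n : ℕ}

theorem Um_det : (Um F n).det = 1 := by
  rw [Matrix.det_of_upperTriangular]
  · simp [Um]
  · intro i j hij
    have h1 : (j : Fin n) < i := hij
    have h2 : (j : Fin n) ≠ i := h1.ne
    have h3 : (j : ℕ) < i := h1
    simp only [Um, h2, if_false]
    rw [if_neg (by omega)]

theorem Vm_det (c : Fin n → F) : (Vm c).det = 1 := by
  rw [Matrix.det_of_lowerTriangular]
  · simp [Vm]
  · intro i j hij
    have h1 : (i : Fin n) < j := hij
    have h2 : (j : Fin n) ≠ i := h1.ne'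
    have h3 : (i : ℕ) < j := h1
    simp only [Vm, h2, if_false]
    rw [if_neg (by omega)]

theorem Vm_mulVec_zero (c x : Fin n → F) (i : Fin n) (hi : (i : ℕ) = 0) :
    (Vm c *ᵥ x) i = x i := by
  rw [mulVec, dotProduct, Finset.sum_eq_single i]
  · simp [Vm]
  · intro j _ hj
    simp only [Vm, hj, if_false]
    rw [if_neg (by omega), zero_mul]
  · simp

theorem Vm_mulVec_succ (c x : Fin n → F) (i j : Fin n) (hi : (i : ℕ) = j + 1) :
    (Vm c *ᵥ x) i = x i + c j * x j := by
  have hne : j ≠ i := by intro h; rw [h] at hi; omega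
  rw [mulVec, dotProduct, Finset.sum_eq_add i j hne.symm]
  · simp [Vm, hne, hi]
  · intro k _ hk
    simp only [Vm, hk.1, if_false]
    rw [if_neg, zero_mul]
    intro h
    apply hk.2
    apply Fin.ext
    omega
  · simp
  · simp

theorem vecMul_Vm_last (c x : Fin n → F) (i : Fin n) (hi : (i : ℕ) + 1 = n) :
    (x ᵥ* Vm c) i = x i := by
  rw [vecMul, dotProduct, Finset.sum_eq_single i]
  · simp [Vm]
  · intro j _ hj
    simp only [Vm, hj.symm, if_false]
    rw [if_neg (by omega), mul_zero]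
  · simp

theorem vecMul_Vm_succ (c x : Fin n → F) (i j : Fin n) (hi : (j : ℕ) = i + 1) :
    (x ᵥ* Vm c) i = x i + c i * x j := by
  have hne : i ≠ j := by intro h; rw [h] at hi; omega
  rw [vecMul, dotProduct, Finset.sum_eq_add i j hne]
  · simp [Vm, hne, hi, mul_comm]
  · intro k _ hk
    simp only [Vm, hk.1.symm, if_false]
    rw [if_neg, mul_zero]
    intro h
    apply hk.2
    apply Fin.ext
    omega
  · simp
  · simp

/-- the powers `V ^ k` applied to the first basis vector -/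
theorem Vm_pow_mulVec (c : Fin n → F) (hc : ∀ i, c i ≠ 0) (hn : 0 < n) (k : ℕ) (hk : k < n) :
    (∀ i : Fin n, k < i → ((Vm c ^ k) *ᵥ Pi.single ⟨0, hn⟩ 1) i = 0) ∧
      ((Vm c ^ k) *ᵥ Pi.single ⟨0, hn⟩ 1) ⟨k, hk⟩ ≠ 0 := by
  induction k with
  | zero =>
    constructor
    · intro i hi
      rw [pow_zero, one_mulVec, Pi.single_apply, if_neg]
      intro h
      rw [h] at hi
      exact lt_irrefl _ hi
    · rw [pow_zero, one_mulVec, Pi.single_eq_same]
      exact one_ne_zero
  | succ k ih =>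
    obtain ⟨ih1, ih2⟩ := ih (by omega)
    have e : (Vm c ^ (k + 1)) *ᵥ Pi.single ⟨0, hn⟩ 1 = Vm c *ᵥ ((Vm c ^ k) *ᵥ Pi.single ⟨0, hn⟩ 1) := by
      rw [mulVec_mulVec, ← pow_succ']
    constructor
    · intro i hi
      rw [e, Vm_mulVec_succ c _ i ⟨i - 1, by omega⟩ (by simp; omega), ih1 i (by omega),
        ih1 _ (by simp; omega), mul_zero, add_zero]
    · rw [e, Vm_mulVec_succ c _ ⟨k + 1, hk⟩ ⟨k, by omega⟩ rfl, ih1 _ (by simp), zero_add]
      exact mul_ne_zero (hc _) ih2

/-- all coordinates of `e_last V⁻¹` are non-zero -/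
theorem vecMul_inv_ne (c : Fin n → F) (hc : ∀ i, c i ≠ 0) (hn : 0 < n) (x : Fin n → F)
    (hx : x ᵥ* Vm c = Pi.single ⟨n - 1, by omega⟩ 1) (k : ℕ) (hk : k < n) :
    x ⟨n - 1 - k, by omega⟩ ≠ 0 := by
  induction k with
  | zero =>
    have h1 := congrFun hx ⟨n - 1 - 0, by omega⟩
    rw [vecMul_Vm_last c x _ (by simp; omega)] at h1
    rw [h1]
    have : (⟨n - 1 - 0, by omega⟩ : Fin n) = ⟨n - 1, by omega⟩ := rfl
    rw [this, Pi.single_eq_same]
    exact one_ne_zero
  | succ k ih =>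
    have h0 := ih (by omega)
    have h1 := congrFun hx ⟨n - 1 - (k + 1), by omega⟩
    rw [vecMul_Vm_succ c x ⟨n - 1 - (k + 1), by omega⟩ ⟨n - 1 - k, by omega⟩ (by simp; omega),
      Pi.single_apply, if_neg (by intro h; have := congrArg Fin.val h; simp at this; omega)] at h1
    intro h2
    rw [h2, zero_add] at h1
    rcases mul_eq_zero.mp h1 with h3 | h3
    · exact hc _ h3
    · exact h0 h3

end Matrices

end Cfsg.Agent.H42.ThreeUnip
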