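import Mathlib
import Cfsg.Agent.H42.ThreeUnip

/-!
Generation of `SL_n(F)` by a transvection and two regular unipotent elements.
-/

set_option autoImplicit false

namespace Cfsg.Agent.H42.ThreeUnip

open Matrix Cfsg.Agent.H36.SLT

variable {F : Type*} [Field F] {n : ℕ}

theorem smul_dot {n : ℕ} (x : F) (φ a : Fin n → F) : φ ⬝ᵥ (x • a) = x * (φ ⬝ᵥ a) := by
  rw [dotProduct_smul, smul_eq_mul]

/-- The main generation statement. -/
theorem gen_top (hn : 3 ≤ n) (G : Subgroup (SpecialLinearGroup (Fin n) F)) (c : Fin n → F)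
    (hc : ∀ i, c i ≠ 0) (hc0 : c ⟨0, by omega⟩ = 1) (u v : SpecialLinearGroup (Fin n) F)
    (hu : (u : Matrix (Fin n) (Fin n) F) = Um F n) (hv : (v : Matrix (Fin n) (Fin n) F) = Vm c)
    (hug : u ∈ G) (hvg : v ∈ G) (θ : F) (hθ : ∀ x : F, x ≠ 0 → ∃ k : ℕ, θ ^ (k + 1) = x) (μ : F)
    (hμ : ((Pi.single (⟨n - 1, by omega⟩ : Fin n) (1 : F) : Fin n → F) ᵥ*
      ((v⁻¹ : SpecialLinearGroup (Fin n) F) : Matrix (Fin n) (Fin n) F)) ⟨0, by omega⟩ * μ = θ)
    (ht : Has G (μ • (Pi.single (⟨0, by omega⟩ : Fin n) (1 : F) : Fin n → F))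
      (Pi.single (⟨n - 1, by omega⟩ : Fin n) (1 : F) : Fin n → F)) : G = ⊤ := by
  have hn0 : 0 < n := by omega
  haveI : Nontrivial (Fin n) := Fin.nontrivial_iff_two_le.mpr (by omega)
  obtain ⟨e0, he0⟩ : ∃ e0 : Fin n → F, e0 = Pi.single (⟨0, by omega⟩ : Fin n) (1 : F) := ⟨_, rfl⟩
  obtain ⟨el, hel⟩ : ∃ el : Fin n → F, el = Pi.single (⟨n - 1, by omega⟩ : Fin n) (1 : F) := ⟨_, rfl⟩
  rw [← he0, ← hel] at ht
  rw [← hel] at hμ
  have dotel : ∀ a : Fin n → F, el ⬝ᵥ a = a ⟨n - 1, by omega⟩ := by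
    intro a; rw [hel, single_dotProduct, one_mul]
  have dote0 : ∀ a : Fin n → F, a ⬝ᵥ e0 = a ⟨0, by omega⟩ := by
    intro a; rw [he0, dotProduct_single, mul_one]
  set κ : F := (el ᵥ* ((v⁻¹ : SpecialLinearGroup (Fin n) F) : Matrix (Fin n) (Fin n) F)) ⟨0, by omega⟩
    with hκ
  have inv_mul' : ∀ g : SpecialLinearGroup (Fin n) F,
      ((g⁻¹ : SpecialLinearGroup (Fin n) F) : Matrix (Fin n) (Fin n) F) *
        (g : Matrix (Fin n) (Fin n) F) = 1 := fun g =>
    congrArg (fun A : SpecialLinearGroup (Fin n) F => (A : Matrix (Fin n) (Fin n) F)) (inv_mul_cancel g)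
  have mul_inv' : ∀ g : SpecialLinearGroup (Fin n) F,
      (g : Matrix (Fin n) (Fin n) F) *
        ((g⁻¹ : SpecialLinearGroup (Fin n) F) : Matrix (Fin n) (Fin n) F) = 1 := fun g =>
    congrArg (fun A : SpecialLinearGroup (Fin n) F => (A : Matrix (Fin n) (Fin n) F)) (mul_inv_cancel g)
  have hκ0 : κ ≠ 0 := by
    have h1 := vecMul_inv_ne c hc hn0
      (el ᵥ* ((v⁻¹ : SpecialLinearGroup (Fin n) F) : Matrix (Fin n) (Fin n) F))
      (by rw [← hv, vecMul_vecMul, inv_mul', vecMul_one, hel]) (n - 1) (by omega)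
    have h2 : (⟨n - 1 - (n - 1), by omega⟩ : Fin n) = ⟨0, by omega⟩ := Fin.ext (by simp)
    rw [h2] at h1
    exact h1
  have hθ0 : θ ≠ 0 := by
    intro h
    obtain ⟨k, hk⟩ := hθ 1 one_ne_zero
    rw [h, zero_pow (by omega)] at hk
    exact zero_ne_one hk
  -- vectors `v ^ k e0`
  obtain ⟨av, hav⟩ : ∃ av : ℕ → Fin n → F, ∀ k, av k = (Vm c ^ k) *ᵥ e0 := ⟨fun k => (Vm c ^ k) *ᵥ e0, fun _ => rfl⟩
  have hav_zero : ∀ k, k < n → ∀ i : Fin n, k < i → av k i = 0 := by
    intro k hk i hi
    rw [hav, he0]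
    exact (Vm_pow_mulVec c hc hn0 k hk).1 i hi
  have hav_ne : ∀ k (hk : k < n), av k ⟨k, hk⟩ ≠ 0 := by
    intro k hk
    rw [hav, he0]
    exact (Vm_pow_mulVec c hc hn0 k hk).2
  have coe_pow : ∀ k : ℕ, ((v ^ k : SpecialLinearGroup (Fin n) F) : Matrix (Fin n) (Fin n) F) = Vm c ^ k := by
    intro k
    induction k with
    | zero => rw [pow_zero, pow_zero]; rfl
    | succ k ih =>
      have h1 : ((v ^ (k + 1) : SpecialLinearGroup (Fin n) F) : Matrix (Fin n) (Fin n) F) =
          ((v ^ k : SpecialLinearGroup (Fin n) F) : Matrix (Fin n) (Fin n) F) *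
            (v : Matrix (Fin n) (Fin n) F) :=
        congrArg (fun A : SpecialLinearGroup (Fin n) F => (A : Matrix (Fin n) (Fin n) F)) (pow_succ v k)
      rw [h1, ih, hv, pow_succ]
  -- `el` is fixed by `u`
  have hUl : el ᵥ* (u : Matrix (Fin n) (Fin n) F) = el := by
    rw [hel, single_one_vecMul, hu]
    ext j
    simp only [Matrix.row, Um, Pi.single_apply]
    by_cases hj : j = ⟨n - 1, by omega⟩
    · simp [hj]
    · rw [if_neg hj, if_neg (by have := j.2; simp; omega), if_neg hj]
  have hUl' : el ᵥ* ((u⁻¹ : SpecialLinearGroup (Fin n) F) : Matrix (Fin n) (Fin n) F) = el := by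
    conv_lhs => rw [← hUl]
    rw [vecMul_vecMul, mul_inv', vecMul_one]
  -- `u (v e0) = v e0 + e0`
  have hav1 : av 1 = e0 + Pi.single (⟨1, by omega⟩ : Fin n) (1 : F) := by
    rw [hav, pow_one, he0, mulVec_single_one]
    ext i
    simp only [Matrix.col_apply, Vm, Pi.add_apply, Pi.single_apply]
    by_cases h0 : i = ⟨0, by omega⟩
    · rw [h0]; simp
    · rw [if_neg (fun h => h0 h.symm), if_neg h0, zero_add, hc0]
      by_cases h1 : i = ⟨1, by omega⟩
      · rw [h1]; simp
      · have h2 : ¬ ((i : ℕ) = 0 + 1) := fun h => h1 (Fin.ext (by simpa using h))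
        simp [h1, h2]
  have hUe0 : (u : Matrix (Fin n) (Fin n) F) *ᵥ e0 = e0 := by
    rw [he0, mulVec_single_one, hu]
    ext i
    simp only [Matrix.col_apply, Um, Pi.single_apply]
    by_cases h0 : i = ⟨0, by omega⟩
    · rw [h0]; simp
    · rw [if_neg (fun h => h0 h.symm), if_neg h0, if_neg (by simp)]
  have hUe1 : (u : Matrix (Fin n) (Fin n) F) *ᵥ (Pi.single (⟨1, by omega⟩ : Fin n) (1 : F)) =
      Pi.single (⟨1, by omega⟩ : Fin n) (1 : F) + e0 := by
    rw [he0, mulVec_single_one, hu]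
    ext i
    simp only [Matrix.col_apply, Um, Pi.add_apply, Pi.single_apply]
    by_cases h1 : i = ⟨1, by omega⟩
    · rw [h1]; simp
    · rw [if_neg (fun h => h1 h.symm), if_neg h1, zero_add]
      by_cases h0 : i = ⟨0, by omega⟩
      · rw [h0]; simp
      · rw [if_neg h0, if_neg]
        intro h
        apply h0
        apply Fin.ext
        simpa using h.symm
  have hUav : (u : Matrix (Fin n) (Fin n) F) *ᵥ av 1 = av 1 + e0 := by
    rw [hav1, mulVec_add, hUe0, hUe1, ← add_assoc]
  -- Step 1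
  have step_mul : ∀ x y : F, Has G (x • e0) el → Has G (y • e0) el → Has G ((κ * x * y) • e0) el := by
    intro x y h1 h2
    have h3 := h2.conj hvg
    have h4 : (v : Matrix (Fin n) (Fin n) F) *ᵥ (y • e0) = y • av 1 := by
      rw [mulVec_smul, hav, pow_one, hv]
    rw [h4] at h3
    have h5 := h1.comm h3 (by rw [smul_dot, dotel, hav_zero 1 (by omega) _ (by simp; omega), mul_zero])
    rw [smul_dot, dote0, ← hκ, smul_smul] at h5
    have h6 := (h5.conj hug)
    rw [hUl', mulVec_smul, hUav, smul_add] at h6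
    have h7 := h5.neg_left.add_left h6
    rw [neg_add_cancel_left] at h7
    refine h7.congr ?_ rfl
    congr 1
    ring
  have step_pow : ∀ k : ℕ, Has G ((κ⁻¹ * θ ^ (k + 1)) • e0) el := by
    intro k
    induction k with
    | zero =>
      refine ht.congr ?_ rfl
      congr 1
      rw [← hμ, zero_add, pow_one, inv_mul_cancel_left₀ hκ0]
    | succ k ih =>
      refine (step_mul _ _ ih ht).congr ?_ rfl
      congr 1
      have h1 : μ = κ⁻¹ * θ := by rw [← hμ, inv_mul_cancel_left₀ hκ0]
      rw [h1, pow_succ θ (k + 1)]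
      field_simp
  have step1 : ∀ x : F, Has G (x • e0) el := by
    intro x
    by_cases hx : x = 0
    · rw [hx, zero_smul]; exact Has.zero_left _
    · obtain ⟨k, hk⟩ := hθ (κ * x) (mul_ne_zero hκ0 hx)
      refine (step_pow k).congr ?_ rfl
      rw [hk, inv_mul_cancel_left₀ hκ0]
  -- Step 2
  have step2 : ∀ k : ℕ, k + 1 < n → ∀ x : F, Has G (x • av k) el := by
    intro k
    induction k with
    | zero =>
      intro _ x
      have : av 0 = e0 := by rw [hav, pow_zero, one_mulVec]
      rw [this]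
      exact step1 x
    | succ k ih =>
      intro hk x
      have h1 := ih (by omega) 1
      rw [one_smul] at h1
      have h2 := (step1 (κ⁻¹ * x)).conj (G.pow_mem hvg (k + 1))
      have h3 : ((v ^ (k + 1) : SpecialLinearGroup (Fin n) F) : Matrix (Fin n) (Fin n) F) *ᵥ ((κ⁻¹ * x) • e0) =
          (κ⁻¹ * x) • av (k + 1) := by
        rw [mulVec_smul, coe_pow, hav]
      rw [h3] at h2
      have h4 := h1.comm h2 (by rw [smul_dot, dotel, hav_zero (k + 1) (by omega) _ (by simp; omega), mul_zero])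
      have h5 : (el ᵥ* (((v ^ (k + 1))⁻¹ : SpecialLinearGroup (Fin n) F) : Matrix (Fin n) (Fin n) F)) ⬝ᵥ av k = κ := by
        rw [← dotProduct_mulVec]
        have h6 : (((v ^ (k + 1))⁻¹ : SpecialLinearGroup (Fin n) F) : Matrix (Fin n) (Fin n) F) *ᵥ av k =
            ((v⁻¹ : SpecialLinearGroup (Fin n) F) : Matrix (Fin n) (Fin n) F) *ᵥ e0 := by
          rw [hav, ← coe_pow, mulVec_mulVec]
          congr 1
          have h7 : (v ^ (k + 1))⁻¹ * v ^ k = v⁻¹ := by rw [pow_succ']; group
          exact congrArg (fun A : SpecialLinearGroup (Fin n) F => (A : Matrix (Fin n) (Fin n) F)) h7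
        rw [h6, dotProduct_mulVec, dote0]
      rw [h5, smul_smul, mul_inv_cancel_left₀ hκ0] at h4
      exact h4
  -- Step 3
  have step3 : ∀ m : ℕ, m < n → ∀ a : Fin n → F, (∀ i : Fin n, m ≤ i → a i = 0) → Has G a el := by
    intro m
    induction m with
    | zero =>
      intro _ a ha
      have : a = 0 := funext fun i => ha i (Nat.zero_le _)
      rw [this]
      exact Has.zero_left _
    | succ m ih =>
      intro hm a ha
      have h1 := ih (by omega) (a - (a ⟨m, by omega⟩ * (av m ⟨m, by omega⟩)⁻¹) • av m) (by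
        intro i hi
        rw [Pi.sub_apply, Pi.smul_apply, smul_eq_mul]
        rcases Nat.eq_or_lt_of_le hi with h | h
        · have : i = ⟨m, by omega⟩ := Fin.ext h.symm
          rw [this, mul_assoc, inv_mul_cancel₀ (hav_ne m (by omega)), mul_one, sub_self]
        · rw [ha i h, hav_zero m (by omega) i h, mul_zero, sub_zero])
      have h2 := step2 m (by omega) (a ⟨m, by omega⟩ * (av m ⟨m, by omega⟩)⁻¹)
      have h3 := h1.add_left h2
      rw [sub_add_cancel] at h3
      exact h3
  have fullel : Full G el := by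
    intro a ha
    rw [dotel] at ha
    apply step3 (n - 1) (by omega) a
    intro i hi
    have : i = ⟨n - 1, by omega⟩ := Fin.ext (by have := i.2; simp; omega)
    rw [this]; exact ha
  -- Step 4
  have step4 : ∀ k : ℕ, ∀ hk : k < n, Full G (Pi.single (⟨n - 1 - k, by omega⟩ : Fin n) (1 : F)) := by
    intro k
    induction k with
    | zero => intro _; rw [hel] at fullel; exact fullel
    | succ k ih =>
      intro hk
      have h1 := ih (by omega)
      have h2 := h1.conj hvg
      have h3 : (Pi.single (⟨n - 1 - k, by omega⟩ : Fin n) (1 : F) : Fin n → F) ᵥ* (v : Matrix (Fin n) (Fin n) F) =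
          Pi.single (⟨n - 1 - k, by omega⟩ : Fin n) (1 : F) +
            c ⟨n - 1 - (k + 1), by omega⟩ • (Pi.single (⟨n - 1 - (k + 1), by omega⟩ : Fin n) (1 : F) : Fin n → F) := by
        rw [single_one_vecMul, hv]
        ext j
        simp only [Matrix.row, Vm, Pi.add_apply, Pi.smul_apply, smul_eq_mul, Pi.single_apply]
        by_cases h4 : j = ⟨n - 1 - k, by omega⟩
        · rw [if_pos h4, if_pos h4, if_neg, mul_zero, add_zero]
          intro h5
          rw [h4] at h5
          have := congrArg Fin.val h5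
          simp at this
          omega
        · rw [if_neg h4, if_neg h4, zero_add]
          by_cases h5 : j = ⟨n - 1 - (k + 1), by omega⟩
          · rw [if_pos h5, h5, if_pos (by simp; omega), mul_one]
          · rw [if_neg h5, mul_zero, if_neg]
            intro h6
            apply h5
            apply Fin.ext
            simp at h6 ⊢
            omega
      rw [h3] at h2
      have h4 := h1.neg.add h2
      rw [neg_add_cancel_left] at h4
      have h5 := h4.smul (c ⟨n - 1 - (k + 1), by omega⟩)⁻¹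
      rw [smul_smul, inv_mul_cancel₀ (hc _), one_smul] at h5
      exact h5
  apply eq_top
  apply full_all
  intro i
  have h1 := step4 (n - 1 - i) (by omega)
  have h2 : (⟨n - 1 - (n - 1 - i), by omega⟩ : Fin n) = i := Fin.ext (by have := i.2; simp; omega)
  rw [h2] at h1
  exact h1

end Cfsg.Agent.H42.ThreeUnip
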