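import Mathlib
import Cfsg.Agent.H42.ThreeUnip2
import Cfsg.Agent.ClassBase.SL

/-!
Generation of `SL_n(F)` by a regular unipotent element and one transvection.
-/

set_option autoImplicit false

namespace Cfsg.Agent.H42.CycGen

open Matrix Cfsg.Agent.H36.SLT Cfsg.Agent.H42.ThreeUnip

section Um

variable {F : Type*} [Field F] {n : ℕ}

theorem N_apply (i j : Fin n) : (Um F n - 1) i j = if (j : ℕ) = i + 1 then (1 : F) else 0 := by
  simp only [Matrix.sub_apply, Um, Matrix.one_apply]
  by_cases h : j = i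
  · subst h; simp
  · rw [if_neg h, if_neg (fun h' => h h'.symm : ¬ i = j), sub_zero]

theorem N_pow (k : ℕ) (i j : Fin n) :
    ((Um F n - 1) ^ k) i j = if (j : ℕ) = i + k then (1 : F) else 0 := by
  induction k generalizing i j with
  | zero =>
    rw [pow_zero, Matrix.one_apply]
    by_cases h : i = j
    · subst h; simp
    · rw [if_neg h, if_neg]
      intro h'
      exact h (Fin.ext (by simpa using h'.symm))
  | succ k ih =>
    rw [pow_succ, Matrix.mul_apply]
    by_cases h : (j : ℕ) = i + (k + 1)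
    · rw [if_pos h, Finset.sum_eq_single (⟨i + k, by have := j.2; omega⟩ : Fin n)]
      · rw [ih, N_apply, if_pos rfl, if_pos (by simp; omega), mul_one]
      · intro b _ hb
        rw [ih, if_neg, zero_mul]
        intro h'
        exact hb (Fin.ext h')
      · simp
    · rw [if_neg h]
      apply Finset.sum_eq_zero
      intro b _
      rw [ih, N_apply]
      by_cases hb : (b : ℕ) = i + k
      · rw [if_neg (by omega : ¬ (j : ℕ) = b + 1), mul_zero]
      · rw [if_neg hb, zero_mul]

theorem reg (hn : 0 < n) {u : SpecialLinearGroup (Fin n) F} (hu : (u : Matrix (Fin n) (Fin n) F) = Um F n) :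
    IsNilpotent ((u : Matrix (Fin n) (Fin n) F) - 1) ∧
      ((u : Matrix (Fin n) (Fin n) F) - 1) ^ (n - 1) ≠ 0 := by
  rw [hu]
  refine ⟨⟨n, ?_⟩, ?_⟩
  · ext i j
    rw [N_pow, if_neg (by have := j.2; omega)]
    rfl
  · intro h1
    have h2 := congrFun (congrFun h1 ⟨0, by omega⟩) ⟨n - 1, by omega⟩
    rw [N_pow] at h2
    simp at h2

theorem vecMul_Um_zero (x : Fin n → F) (j : Fin n) (hj : (j : ℕ) = 0) : (x ᵥ* Um F n) j = x j := by
  rw [vecMul, dotProduct, Finset.sum_eq_single j]
  · simp [Um]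
  · intro i _ hi
    simp only [Um, hi.symm, if_false]
    rw [if_neg (by omega), mul_zero]
  · simp

theorem vecMul_Um_succ (x : Fin n → F) (i j : Fin n) (hj : (j : ℕ) = i + 1) :
    (x ᵥ* Um F n) j = x j + x i := by
  have hne : j ≠ i := by intro h; rw [h] at hj; omega
  rw [vecMul, dotProduct, Finset.sum_eq_add j i hne]
  · simp [Um, hne, hj]
  · intro k _ hk
    simp only [Um, hk.1.symm, if_false]
    rw [if_neg, mul_zero]
    intro h
    apply hk.2
    apply Fin.ext
    omega
  · simp
  · simp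

theorem Um_pow_apply (k : ℕ) (i j : Fin n) :
    (Um F n ^ k) i j = if (i : ℕ) ≤ j then ((k.choose ((j : ℕ) - i) : ℕ) : F) else 0 := by
  induction k generalizing i j with
  | zero =>
    rw [pow_zero, Matrix.one_apply]
    by_cases h : i = j
    · subst h; simp
    · rw [if_neg h]
      by_cases h1 : (i : ℕ) ≤ j
      · rw [if_pos h1, Nat.choose_eq_zero_of_lt, Nat.cast_zero]
        rcases Nat.eq_or_lt_of_le h1 with h2 | h2
        · exact absurd (Fin.ext h2) h
        · omega
      · rw [if_neg h1]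
  | succ k ih =>
    have h0 : (Um F n ^ (k + 1)) i j = (((Um F n ^ k) i) ᵥ* Um F n) j := by
      rw [pow_succ]; rfl
    rw [h0]
    by_cases hj0 : (j : ℕ) = 0
    · rw [vecMul_Um_zero _ _ hj0, ih]
      by_cases hi0 : (i : ℕ) = 0
      · simp [hi0, hj0]
      · rw [if_neg (by omega), if_neg (by omega)]
    · rw [vecMul_Um_succ _ ⟨j - 1, by have := j.2; omega⟩ j (by simp; omega), ih, ih]
      simp only
      by_cases h1 : (i : ℕ) ≤ j
      · by_cases h2 : (i : ℕ) ≤ (j : ℕ) - 1
        · rw [if_pos h1, if_pos h2, if_pos h1]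
          have h3 : (j : ℕ) - i = ((j : ℕ) - 1 - i) + 1 := by omega
          rw [h3, Nat.choose_succ_succ, Nat.cast_add, add_comm]
        · have h3 : (j : ℕ) - i = 0 := by omega
          rw [if_pos h1, if_neg h2, if_pos h1, h3]
          simp
      · rw [if_neg h1, if_neg (by omega), if_neg h1, add_zero]

/-- the last basis vector -/
def el (F : Type*) [Field F] (n : ℕ) (hn : 0 < n) : Fin n → F := Pi.single (⟨n - 1, by omega⟩ : Fin n) 1

theorem dot_Um_pow (hn : 0 < n) (d : ℕ → F) (k : ℕ) :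
    (fun i : Fin n => d (n - 1 - i)) ⬝ᵥ ((Um F n ^ k) *ᵥ el F n hn) =
      ∑ j ∈ Finset.range n, ((k.choose j : ℕ) : F) * d j := by
  rw [el, mulVec_single_one, dotProduct]
  simp only [Matrix.col_apply, Um_pow_apply]
  rw [← Finset.sum_range_reflect, ← Fin.sum_univ_eq_sum_range (fun j => ((k.choose (n - 1 - j) : ℕ) : F) * d (n - 1 - j))]
  apply Finset.sum_congr rfl
  intro i _
  rw [if_pos (by have := i.2; omega), mul_comm]

theorem dot_Um_pow_lt (hn : 0 < n) (d : ℕ → F) (k : ℕ) (hk : k < n) :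
    (fun i : Fin n => d (n - 1 - i)) ⬝ᵥ ((Um F n ^ k) *ᵥ el F n hn) =
      ∑ j ∈ Finset.range (k + 1), ((k.choose j : ℕ) : F) * d j := by
  rw [dot_Um_pow]
  symm
  apply Finset.sum_subset
  · intro x hx
    rw [Finset.mem_range] at hx ⊢
    omega
  · intro x _ hx
    rw [Finset.mem_range] at hx
    rw [Nat.choose_eq_zero_of_lt (by omega), Nat.cast_zero, zero_mul]

end Um

section Rules

variable {F : Type*} [Field F] {n : ℕ}

theorem inv_mul_coe (g : SpecialLinearGroup (Fin n) F) :
    ((g⁻¹ : SpecialLinearGroup (Fin n) F) : Matrix (Fin n) (Fin n) F) *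
        (g : Matrix (Fin n) (Fin n) F) = 1 :=
  congrArg (fun A : SpecialLinearGroup (Fin n) F => (A : Matrix (Fin n) (Fin n) F)) (inv_mul_cancel g)

theorem mul_inv_coe (g : SpecialLinearGroup (Fin n) F) :
    (g : Matrix (Fin n) (Fin n) F) *
        ((g⁻¹ : SpecialLinearGroup (Fin n) F) : Matrix (Fin n) (Fin n) F) = 1 :=
  congrArg (fun A : SpecialLinearGroup (Fin n) F => (A : Matrix (Fin n) (Fin n) F)) (mul_inv_cancel g)

/-- the vector `u ^ k w` -/
def av (u : SpecialLinearGroup (Fin n) F) (w : Fin n → F) (k : ℤ) : Fin n → F :=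
  ((u ^ k : SpecialLinearGroup (Fin n) F) : Matrix (Fin n) (Fin n) F) *ᵥ w

variable {u : SpecialLinearGroup (Fin n) F}

theorem av_zpow (w : Fin n → F) (m k : ℤ) :
    ((u ^ m : SpecialLinearGroup (Fin n) F) : Matrix (Fin n) (Fin n) F) *ᵥ av u w k = av u w (m + k) := by
  rw [av, av, mulVec_mulVec, _root_.zpow_add]
  rfl

theorem av_av (w : Fin n → F) (m k : ℤ) : av u (av u w k) m = av u w (m + k) := av_zpow w m k

theorem av_succ (w : Fin n → F) (k : ℤ) :
    (u : Matrix (Fin n) (Fin n) F) *ᵥ av u w k = av u w (k + 1) := by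
  have := av_zpow (u := u) w 1 k
  rw [zpow_one, add_comm] at this
  exact this

theorem av_zero (w : Fin n → F) : av u w 0 = w := by
  rw [av, zpow_zero]
  exact one_mulVec w

theorem coe_pow (k : ℕ) : ((u ^ k : SpecialLinearGroup (Fin n) F) : Matrix (Fin n) (Fin n) F) =
    (u : Matrix (Fin n) (Fin n) F) ^ k := by
  induction k with
  | zero => rw [pow_zero, pow_zero]; rfl
  | succ k ih =>
    have h1 : ((u ^ (k + 1) : SpecialLinearGroup (Fin n) F) : Matrix (Fin n) (Fin n) F) =
        ((u ^ k : SpecialLinearGroup (Fin n) F) : Matrix (Fin n) (Fin n) F) *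
          (u : Matrix (Fin n) (Fin n) F) :=
      congrArg (fun A : SpecialLinearGroup (Fin n) F => (A : Matrix (Fin n) (Fin n) F)) (pow_succ u k)
    rw [h1, ih, pow_succ]

theorem av_natCast (w : Fin n → F) (k : ℕ) : av u w (k : ℤ) = ((u : Matrix (Fin n) (Fin n) F) ^ k) *ᵥ w := by
  rw [av, zpow_natCast, coe_pow]

theorem av_add (a b : Fin n → F) (k : ℤ) : av u (a + b) k = av u a k + av u b k := mulVec_add _ _ _

theorem av_smul (c : F) (b : Fin n → F) (k : ℤ) : av u (c • b) k = c • av u b k := mulVec_smul _ _ _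

variable {G : Subgroup (SpecialLinearGroup (Fin n) F)}

/-- The basic rule. -/
theorem rule (hu : u ∈ G) (l : ℤ) {a b φ : Fin n → F} (h1 : Has G a φ) (h2 : Has G b φ)
    (h : φ ⬝ᵥ av u b l = 0) : Has G ((φ ⬝ᵥ av u a (-l)) • av u b l) φ := by
  have h3 := h2.conj (G.zpow_mem hu l)
  have h4 := h1.comm h3 h
  rw [← dotProduct_mulVec, ← _root_.zpow_neg] at h4
  exact h4

/-- the scalars `x` with the transvection `x a ⊗ φ` in `G` -/
def RR (G : Subgroup (SpecialLinearGroup (Fin n) F)) (a φ : Fin n → F) : AddSubgroup F where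
  carrier := {x | Has G (x • a) φ}
  zero_mem' := by
    show Has G ((0 : F) • a) φ
    rw [zero_smul]; exact Has.zero_left _
  add_mem' := by
    intro x y hx hy
    show Has G ((x + y) • a) φ
    rw [add_smul]
    exact Has.add_left hx hy
  neg_mem' := by
    intro x hx
    show Has G ((-x) • a) φ
    rw [neg_smul]
    exact Has.neg_left hx

theorem mem_RR {a φ : Fin n → F} {x : F} : x ∈ RR G a φ ↔ Has G (x • a) φ := Iff.rfl

/-- the vectors `a` with all transvections `x a ⊗ φ` in `G` -/
def AA (G : Subgroup (SpecialLinearGroup (Fin n) F)) (φ : Fin n → F) : Submodule F (Fin n → F) where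
  carrier := {a | ∀ x : F, Has G (x • a) φ}
  zero_mem' := by
    intro x
    rw [smul_zero]; exact Has.zero_left _
  add_mem' := by
    intro a b ha hb x
    rw [smul_add]
    exact (ha x).add_left (hb x)
  smul_mem' := by
    intro c a ha x
    rw [smul_smul]
    exact ha _

theorem mem_AA {a φ : Fin n → F} : a ∈ AA G φ ↔ ∀ x : F, Has G (x • a) φ := Iff.rfl

theorem mem_AA_iff_RR {a φ : Fin n → F} : a ∈ AA G φ ↔ RR G a φ = ⊤ := by
  rw [eq_top_iff]
  exact ⟨fun h x _ => h x, fun h x => h (AddSubgroup.mem_top x)⟩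

theorem dot_of_mem_AA {a φ : Fin n → F} (h : a ∈ AA G φ) : φ ⬝ᵥ a = 0 := by
  obtain ⟨h1, _⟩ := h 1
  rwa [one_smul] at h1

theorem full_of_ker {φ : Fin n → F} (h : ∀ a : Fin n → F, φ ⬝ᵥ a = 0 → a ∈ AA G φ) : Full G φ := by
  intro a ha
  have := h a ha 1
  rwa [one_smul] at this

theorem RR_rule (hu : u ∈ G) {w φ : Fin n → F} (i i' m : ℤ) {x y : F} (hx : x ∈ RR G (av u w i) φ)
    (hy : y ∈ RR G (av u w i') φ) (hm : φ ⬝ᵥ av u w m = 0) :
    (φ ⬝ᵥ av u w (i + i' - m)) * x * y ∈ RR G (av u w m) φ := by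
  rw [mem_RR] at hx hy ⊢
  have h1 := rule hu (m - i') hx hy (by
    rw [av_smul, av_av, smul_dot, sub_add_cancel, hm, mul_zero])
  rw [av_smul, av_smul, av_av, av_av, smul_dot, sub_add_cancel, smul_smul] at h1
  refine h1.congr ?_ rfl
  congr 1
  have e : -(m - i') + i = i + i' - m := by ring
  rw [e]
  ring

theorem AA_rule (hu : u ∈ G) {a c φ : Fin n → F} (l : ℤ) (ha : a ∈ AA G φ) (hc : c ∈ AA G φ)
    (h0 : φ ⬝ᵥ av u c l = 0) (h1 : φ ⬝ᵥ av u a (-l) ≠ 0) : av u c l ∈ AA G φ := by
  intro x
  have h2 := rule hu l (ha (x * (φ ⬝ᵥ av u a (-l))⁻¹)) (hc 1) (by rw [one_smul, h0])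
  rw [one_smul, av_smul, smul_dot, inv_mul_cancel_right₀ h1] at h2
  exact h2

theorem AA_rule' (hu : u ∈ G) {w φ : Fin n → F} (i m l : ℤ) (hi : av u w i ∈ AA G φ)
    (hm : av u w (m - l) ∈ AA G φ)
    (h0 : φ ⬝ᵥ av u w m = 0) (h1 : φ ⬝ᵥ av u w (i - l) ≠ 0) : av u w m ∈ AA G φ := by
  have h2 := AA_rule hu l hi hm (by rw [av_av, add_sub_cancel, h0])
    (by rw [av_av, neg_add_eq_sub]; exact h1)
  rwa [av_av, add_sub_cancel] at h2

/-- A submodule containing `n` consecutive vectors `u ^ k e_last` is everything. -/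
theorem span_top (hn : 0 < n) (hu : (u : Matrix (Fin n) (Fin n) F) = Um F n)
    (U : Submodule F (Fin n → F)) (k0 : ℤ) (h : ∀ i : ℕ, i < n → av u (el F n hn) (k0 + i) ∈ U) : U = ⊤ := by
  -- reduce to `k0 = 0`
  suffices hs : ∀ V : Submodule F (Fin n → F), (∀ i : ℕ, i < n → av u (el F n hn) i ∈ V) → V = ⊤ by
    have h1 := hs (U.comap (Matrix.mulVecLin
      ((u ^ k0 : SpecialLinearGroup (Fin n) F) : Matrix (Fin n) (Fin n) F))) (by
        intro i hi
        rw [Submodule.mem_comap, Matrix.mulVecLin_apply, av_zpow]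
        exact h i hi)
    rw [eq_top_iff]
    intro x _
    have h2 : av u x (-k0) ∈ (U.comap (Matrix.mulVecLin
      ((u ^ k0 : SpecialLinearGroup (Fin n) F) : Matrix (Fin n) (Fin n) F))) := by
      rw [h1]; trivial
    rw [Submodule.mem_comap, Matrix.mulVecLin_apply, av_zpow, add_neg_cancel, av_zero] at h2
    exact h2
  intro V hV
  have h1 : ∀ j i : ℕ, i + j < n → ((Um F n - 1) ^ j) *ᵥ av u (el F n hn) i ∈ V := by
    intro j
    induction j with
    | zero =>
      intro i hi
      rw [pow_zero, one_mulVec]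
      exact hV i (by omega)
    | succ j ih =>
      intro i hi
      have e : ((Um F n - 1) ^ (j + 1)) *ᵥ av u (el F n hn) i =
          ((Um F n - 1) ^ j) *ᵥ av u (el F n hn) ((i + 1 : ℕ) : ℤ) -
            ((Um F n - 1) ^ j) *ᵥ av u (el F n hn) i := by
        rw [pow_succ, ← mulVec_mulVec, sub_mulVec, one_mulVec, ← hu, av_succ, mulVec_sub,
          Nat.cast_add, Nat.cast_one]
      rw [e]
      exact V.sub_mem (ih _ (by omega)) (ih _ (by omega))
  have h2 : ∀ i : Fin n, (Pi.single i (1 : F) : Fin n → F) ∈ V := by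
    intro i
    have h3 := h1 (n - 1 - i) 0 (by have := i.2; omega)
    rw [Nat.cast_zero, av_zero, el, mulVec_single_one] at h3
    have h4 : ((Um F n - 1) ^ (n - 1 - (i : ℕ))).col (⟨n - 1, by omega⟩ : Fin n) = Pi.single i (1 : F) := by
      ext k
      rw [Matrix.col_apply, N_pow, Pi.single_apply]
      have := i.2
      have := k.2
      by_cases h5 : k = i
      · rw [if_pos h5, if_pos (by rw [h5]; simp; omega)]
      · rw [if_neg h5, if_neg]
        intro h6
        apply h5
        apply Fin.ext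
        simp at h6
        omega
    rw [h4] at h3
    exact h3
  rw [eq_top_iff]
  intro x _
  have h3 : x = ∑ i, x i • (Pi.single i (1 : F) : Fin n → F) := by
    ext j
    simp [Finset.sum_apply, Pi.single_apply]
  rw [h3]
  exact V.sum_mem fun i _ => V.smul_mem _ (h2 i)

/-- If one functional with non-zero first coordinate is full, then `G = ⊤`. -/
theorem top_of_full (hn : 2 ≤ n) (hu : (u : Matrix (Fin n) (Fin n) F) = Um F n) (huG : u ∈ G)
    {φ : Fin n → F} (hφ : φ ⟨0, by omega⟩ ≠ 0) (h : Full G φ) : G = ⊤ := by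
  haveI : Nontrivial (Fin n) := Fin.nontrivial_iff_two_le.mpr hn
  have hN : ∀ j : ℕ, Full G (φ ᵥ* ((Um F n - 1) ^ j)) := by
    intro j
    induction j with
    | zero => rw [pow_zero, vecMul_one]; exact h
    | succ j ih =>
      rw [pow_succ, ← vecMul_vecMul, vecMul_sub, vecMul_one, ← hu, sub_eq_add_neg]
      rw [← hu] at ih
      exact (ih.conj huG).add ih.neg
  have hNval : ∀ (j : ℕ) (i : Fin n), (φ ᵥ* ((Um F n - 1) ^ j)) i =
      if h : j ≤ i then φ ⟨i - j, by have := i.2; omega⟩ else 0 := by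
    intro j i
    have hi := i.2
    rw [vecMul, dotProduct]
    by_cases h : j ≤ i
    · rw [dif_pos h, Finset.sum_eq_single (⟨i - j, by omega⟩ : Fin n)]
      · rw [N_pow, if_pos (by simp; omega), mul_one]
      · intro b _ hb
        rw [N_pow, if_neg, mul_zero]
        intro h1
        apply hb
        apply Fin.ext
        simp
        omega
      · simp
    · rw [dif_neg h]
      apply Finset.sum_eq_zero
      intro b _
      rw [N_pow, if_neg (by omega), mul_zero]
  -- functionals supported on the positions `≥ n - k` are full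
  have main : ∀ k : ℕ, k ≤ n → ∀ ψ : Fin n → F, (∀ i : Fin n, (i : ℕ) + k < n → ψ i = 0) → Full G ψ := by
    intro k
    induction k with
    | zero =>
      intro _ ψ hψ
      have : ψ = 0 := funext fun i => hψ i (by have := i.2; omega)
      rw [this]
      exact Full.zero
    | succ k ih =>
      intro hk ψ hψ
      have h1 := (hN (n - 1 - k)).smul (ψ ⟨n - 1 - k, by omega⟩ * (φ ⟨0, by omega⟩)⁻¹)
      have h2 := ih (by omega) (ψ - (ψ ⟨n - 1 - k, by omega⟩ * (φ ⟨0, by omega⟩)⁻¹) •
        (φ ᵥ* ((Um F n - 1) ^ (n - 1 - k)))) (by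
          intro i hi
          rw [Pi.sub_apply, Pi.smul_apply, smul_eq_mul, hNval]
          by_cases h3 : (i : ℕ) = n - 1 - k
          · rw [dif_pos (by omega)]
            have e1 : i = ⟨n - 1 - k, by omega⟩ := Fin.ext h3
            have e2 : (⟨i - (n - 1 - k), by have := i.2; omega⟩ : Fin n) = ⟨0, by omega⟩ :=
              Fin.ext (by simp; omega)
            rw [e2, ← e1, inv_mul_cancel_right₀ hφ, sub_self]
          · rw [dif_neg (by omega), mul_zero, sub_zero, hψ i (by omega)])
      have h3 := h2.add h1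
      rwa [sub_add_cancel] at h3
  exact eq_top fun ψ => main n le_rfl ψ (fun i hi => by omega)

end Rules

section Trick

open scoped commutatorElement

/-- A normal closure trick. -/
theorem conj_trick {Γ : Type*} [Group Γ] [Finite Γ] (hperf : commutator Γ = ⊤) (u x : Γ)
    (htop : Subgroup.closure ({u, x} : Set Γ) = ⊤)
    (hx : x * x = 1 ∨ x * (u * x * u⁻¹) = u * x * u⁻¹ * x) :
    Subgroup.closure ({u, x * u * x⁻¹} : Set Γ) = ⊤ := by
  set H := Subgroup.closure ({u, x * u * x⁻¹} : Set Γ) with hH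
  have hu : u ∈ H := Subgroup.subset_closure (by simp)
  have hv : x * u * x⁻¹ ∈ H := Subgroup.subset_closure (by simp)
  have hvv : x * (x * u * x⁻¹) * x⁻¹ ∈ H := by
    rcases hx with h | h
    · have e : x⁻¹ = x := inv_eq_of_mul_eq_one_left h
      have : x * (x * u * x⁻¹) * x⁻¹ = u := by
        rw [e]
        calc x * (x * u * x) * x = (x * x) * u * (x * x) := by group
          _ = u := by rw [h]; group
      rw [this]; exact hu
    · have h1 : x * (u * x⁻¹ * u⁻¹) = u * x⁻¹ * u⁻¹ * x := by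
        have h2 : (u * x⁻¹ * u⁻¹) = (u * x * u⁻¹)⁻¹ := by group
        rw [h2]
        have h3 : Commute x (u * x * u⁻¹) := h
        exact h3.inv_right
      have : x * (x * u * x⁻¹) * x⁻¹ = (x * u * x⁻¹) * u⁻¹ * (x * u * x⁻¹) := by
        calc x * (x * u * x⁻¹) * x⁻¹ = x * (x * (u * x⁻¹ * u⁻¹)) * u * x⁻¹ := by group
          _ = x * (u * x⁻¹ * u⁻¹ * x) * u * x⁻¹ := by rw [h1]
          _ = _ := by group
      rw [this]
      exact H.mul_mem (H.mul_mem hv (H.inv_mem hu)) hv
  -- `x` normalizes `H`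
  have hmap : H.map (MulAut.conj x).toMonoidHom ≤ H := by
    rw [hH, MonoidHom.map_closure, Subgroup.closure_le]
    rintro y ⟨z, hz, rfl⟩
    rcases hz with rfl | hz
    · exact hv
    · rw [Set.mem_singleton_iff] at hz
      subst hz
      exact hvv
  have hnx : x ∈ Subgroup.normalizer (H : Set Γ) := by
    have hfin : Finite H := inferInstance
    have heq : H.map (MulAut.conj x).toMonoidHom = H := by
      apply Subgroup.eq_of_le_of_card_ge hmap
      rw [Nat.card_congr (H.equivMapOfInjective (MulAut.conj x).toMonoidHom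
        (MulAut.conj x).injective).toEquiv]
    rw [Subgroup.mem_normalizer_iff]
    intro h
    constructor
    · intro hh
      have : (MulAut.conj x).toMonoidHom h ∈ H := hmap (Subgroup.mem_map_of_mem _ hh)
      exact this
    · intro hh
      rw [← heq] at hh
      obtain ⟨z, hz, hz'⟩ := hh
      have : z = h := (MulAut.conj x).injective hz'
      rw [← this]; exact hz
  have hnorm : H.Normal := by
    rw [← Subgroup.normalizer_eq_top_iff, eq_top_iff, ← htop, Subgroup.closure_le]
    rintro y (rfl | hy)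
    · exact Subgroup.le_normalizer hu
    · rw [Set.mem_singleton_iff] at hy
      subst hy
      exact hnx
  -- the quotient is generated by `x`
  have hcyc : ∀ y : Γ ⧸ H, y ∈ Subgroup.zpowers (QuotientGroup.mk' H x) := by
    have h1 : (⊤ : Subgroup Γ).map (QuotientGroup.mk' H) ≤ Subgroup.zpowers (QuotientGroup.mk' H x) := by
      rw [← htop, MonoidHom.map_closure, Subgroup.closure_le]
      rintro y ⟨z, hz, rfl⟩
      rcases hz with rfl | hz
      · have : QuotientGroup.mk' H z = 1 := (QuotientGroup.eq_one_iff z).mpr hu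
        rw [this]
        exact Subgroup.one_mem _
      · rw [Set.mem_singleton_iff] at hz
        subst hz
        exact Subgroup.mem_zpowers _
    intro y
    obtain ⟨z, rfl⟩ := QuotientGroup.mk'_surjective H y
    exact h1 (Subgroup.mem_map_of_mem _ (Subgroup.mem_top z))
  have hcomm : ∀ a b : Γ ⧸ H, a * b = b * a := by
    intro a b
    obtain ⟨i, hi⟩ := hcyc a
    obtain ⟨j, hj⟩ := hcyc b
    rw [← hi, ← hj]
    exact Commute.zpow_zpow_self _ i j
  have hle : commutator Γ ≤ H := by
    rw [commutator_eq_closure, Subgroup.closure_le]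
    rintro y ⟨a, b, rfl⟩
    have : QuotientGroup.mk' H ⁅a, b⁆ = 1 := by
      rw [map_commutatorElement, commutatorElement_eq_one_iff_mul_comm]
      exact hcomm _ _
    exact (QuotientGroup.eq_one_iff _).mp this
  rw [hperf] at hle
  exact top_le_iff.mp hle

end Trick

end Cfsg.Agent.H42.CycGen
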