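import Mathlib
import Cfsg.Agent.H42.CycGen

/-!
Generation of `SL_n(F)` by a regular unipotent element and one transvection: two general cases.
-/

set_option autoImplicit false

namespace Cfsg.Agent.H42.CycGen

open Matrix Cfsg.Agent.H36.SLT Cfsg.Agent.H42.ThreeUnip

variable {F : Type*} [Field F] {n : ℕ} {u : SpecialLinearGroup (Fin n) F}
  {G : Subgroup (SpecialLinearGroup (Fin n) F)}

/-- If `AA` and one more vector span everything, then `φ` is full. -/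
theorem full_of_span {φ p : Fin n → F} (hp : φ ⬝ᵥ p ≠ 0)
    (h : AA G φ ⊔ Submodule.span F {p} = ⊤) : Full G φ := by
  apply full_of_ker
  intro a ha
  have h1 : a ∈ AA G φ ⊔ Submodule.span F {p} := by rw [h]; trivial
  obtain ⟨b, hb, c, hc, hbc⟩ := Submodule.mem_sup.mp h1
  obtain ⟨x, rfl⟩ := Submodule.mem_span_singleton.mp hc
  have h2 : φ ⬝ᵥ a = x * (φ ⬝ᵥ p) := by
    rw [← hbc, dotProduct_add, dot_of_mem_AA hb, zero_add, smul_dot]
  rw [ha] at h2
  rcases mul_eq_zero.mp h2.symm with h3 | h3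
  · rw [h3, zero_smul, add_zero] at hbc
    rw [← hbc]; exact hb
  · exact absurd h3 hp

theorem T_comm' {ι : Type} [Fintype ι] [DecidableEq ι] {a b φ ψ : ι → F} (h : φ ⬝ᵥ a = 0)
    (h' : ψ ⬝ᵥ b = 0) (h1 : φ ⬝ᵥ b = 0) (h2 : ψ ⬝ᵥ a = 0) :
    T a φ h * T b ψ h' = T b ψ h' * T a φ h := by
  rw [← mul_inv_eq_iff_eq_mul, conj_T]
  apply T_congr
  · rw [T_mulVec, h1, zero_smul, add_zero]
  · rw [T_inv, vecMul_T, h2, zero_smul, add_zero]

/-- The case of characteristic two. -/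
theorem caseI (hn : 3 ≤ n) (hu : (u : Matrix (Fin n) (Fin n) F) = Um F n) (huG : u ∈ G)
    {φ : Fin n → F} (hφ : φ ⟨0, by omega⟩ ≠ 0) {α : F} (hα : α ≠ 0) (s : ℤ)
    {w : Fin n → F} (hw : w = av u (el F n (by omega)) s)
    (fm : φ ⬝ᵥ av u w (-1) = α) (f0 : ∀ k : ℕ, k + 1 < n → φ ⬝ᵥ av u w k = 0)
    (fn : φ ⬝ᵥ av u w ((n - 1 : ℕ) : ℤ) = α) (ht : (1 : F) ∈ RR G (av u w 0) φ)
    (hS : ∀ S : AddSubgroup F, (1 : F) ∈ S → (∀ x ∈ S, α ^ n * x ∈ S) → S = ⊤) : G = ⊤ := by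
  have h1 : ∀ m : ℕ, m + 1 < n → ∀ x ∈ RR G (av u w 0) φ, α ^ m * x ∈ RR G (av u w m) φ := by
    intro m
    induction m with
    | zero => intro _ x hx; rw [pow_zero, one_mul, Nat.cast_zero]; exact hx
    | succ m ih =>
      intro hm x hx
      have h2 := RR_rule huG 0 m ((m + 1 : ℕ) : ℤ) ht (ih (by omega) x hx) (f0 _ hm)
      have e : (0 : ℤ) + m - ((m + 1 : ℕ) : ℤ) = -1 := by push_cast; ring
      rw [e, fm] at h2
      have e2 : α ^ (m + 1) * x = α * 1 * (α ^ m * x) := by ring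
      rw [e2]; exact h2
  have hR0 : RR G (av u w 0) φ = ⊤ := by
    apply hS _ ht
    intro x hx
    have h2 := RR_rule huG (1 : ℕ) ((n - 2 : ℕ) : ℤ) 0 (h1 1 (by omega) 1 ht) (h1 (n - 2) (by omega) x hx)
      (by have := f0 0 (by omega); rwa [Nat.cast_zero] at this)
    have e : ((1 : ℕ) : ℤ) + ((n - 2 : ℕ) : ℤ) - 0 = ((n - 1 : ℕ) : ℤ) := by omega
    rw [e, fn] at h2
    have e2 : α ^ n * x = α * (α ^ 1 * 1) * (α ^ (n - 2) * x) := by
      obtain ⟨k, rfl⟩ : ∃ k, n = k + 2 := ⟨n - 2, by omega⟩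
      rw [Nat.add_sub_cancel]; ring
    rw [e2]; exact h2
  have h0A : av u w 0 ∈ AA G φ := mem_AA_iff_RR.mpr hR0
  have hA : ∀ m : ℕ, m + 1 < n → av u w m ∈ AA G φ := by
    intro m
    induction m with
    | zero => intro _; rw [Nat.cast_zero]; exact h0A
    | succ m ih =>
      intro hm
      refine AA_rule' huG 0 ((m + 1 : ℕ) : ℤ) 1 h0A ?_ (f0 _ hm) ?_
      · have e : ((m + 1 : ℕ) : ℤ) - 1 = m := by push_cast; ring
        rw [e]; exact ih (by omega)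
      · rw [zero_sub, fm]; exact hα
  have hfull : Full G φ := by
    apply full_of_span (p := av u w ((n - 1 : ℕ) : ℤ)) (by rw [fn]; exact hα)
    apply span_top (by omega) hu _ s
    intro i hi
    have e : av u (el F n (by omega)) (s + i) = av u w i := by rw [hw, av_av, add_comm]
    rw [e]
    by_cases h : i + 1 < n
    · exact Submodule.mem_sup_left (hA i h)
    · have : i = n - 1 := by omega
      rw [this]
      exact Submodule.mem_sup_right (Submodule.mem_span_singleton_self _)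
  exact top_of_full (by omega) hu huG hφ hfull

/-- The case `5 ≤ n`. -/
theorem case5 (hn : 5 ≤ n) (hu : (u : Matrix (Fin n) (Fin n) F) = Um F n) (huG : u ∈ G)
    {φ : Fin n → F} (hφ : φ ⟨0, by omega⟩ ≠ 0) {α β : F} (hα : α ≠ 0) (hβ : β ≠ 0) (s : ℤ)
    {w : Fin n → F} (hw : w = av u (el F n (by omega)) s)
    (fm2 : φ ⬝ᵥ av u w (-2) = α) (fm1 : φ ⬝ᵥ av u w (-1) = 0) (f0 : φ ⬝ᵥ av u w 0 = 0)
    (f1 : φ ⬝ᵥ av u w 1 = 0) (f2 : φ ⬝ᵥ av u w 2 = 0) (f3 : φ ⬝ᵥ av u w 3 = β)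
    (ht : (1 : F) ∈ RR G (av u w 0) φ)
    (hS : ∀ S : AddSubgroup F, (1 : F) ∈ S → (∀ x ∈ S, β ^ 2 * α ^ 3 * x ∈ S) →
      (∀ x ∈ S, (φ ⬝ᵥ av u w 4) * α ^ 2 * x ∈ S) → S = ⊤) : G = ⊤ := by
  have hR2 : ∀ x ∈ RR G (av u w 0) φ, α * x ∈ RR G (av u w 2) φ := by
    intro x hx
    have h := RR_rule huG 0 0 2 ht hx f2
    have e : (0 : ℤ) + 0 - 2 = -2 := by norm_num
    rw [e, fm2, mul_one] at h
    exact h
  have hα2 : α ∈ RR G (av u w 2) φ := by
    have := hR2 1 ht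
    rwa [mul_one] at this
  have hR1 : ∀ x ∈ RR G (av u w 2) φ, ∀ y ∈ RR G (av u w 2) φ, β * x * y ∈ RR G (av u w 1) φ := by
    intro x hx y hy
    have h := RR_rule huG 2 2 1 hx hy f1
    have e : (2 : ℤ) + 2 - 1 = 3 := by norm_num
    rw [e, f3] at h
    exact h
  have hR0 : RR G (av u w 0) φ = ⊤ := by
    apply hS _ ht
    · intro x hx
      have h1 := hR1 α hα2 (α * x) (hR2 x hx)
      have h2 := RR_rule huG 1 2 0 h1 hα2 f0
      have e : (1 : ℤ) + 2 - 0 = 3 := by norm_num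
      rw [e, f3] at h2
      have e2 : β ^ 2 * α ^ 3 * x = β * (β * α * (α * x)) * α := by ring
      rw [e2]; exact h2
    · intro x hx
      have h2 := RR_rule huG 2 2 0 hα2 (hR2 x hx) f0
      have e : (2 : ℤ) + 2 - 0 = 4 := by norm_num
      rw [e] at h2
      have e2 : (φ ⬝ᵥ av u w 4) * α ^ 2 * x = (φ ⬝ᵥ av u w 4) * α * (α * x) := by ring
      rw [e2]; exact h2
  have hA0 : av u w 0 ∈ AA G φ := mem_AA_iff_RR.mpr hR0
  have hA2 : av u w 2 ∈ AA G φ := AA_rule' huG 0 2 2 hA0 (by norm_num; exact hA0) f2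
    (by norm_num; rw [fm2]; exact hα)
  have hA1 : av u w 1 ∈ AA G φ := AA_rule' huG 2 1 (-1) hA2 (by norm_num; exact hA2) f1
    (by norm_num; rw [f3]; exact hβ)
  have hAm1 : av u w (-1) ∈ AA G φ := AA_rule' huG 1 (-1) (-2) hA1 (by norm_num; exact hA1) fm1
    (by norm_num; rw [f3]; exact hβ)
  -- the submodule
  obtain ⟨U, hU⟩ : ∃ U : Submodule F (Fin n → F), U = AA G φ ⊔ Submodule.span F {av u w 3} := ⟨_, rfl⟩
  have hAU : ∀ a, a ∈ AA G φ → a ∈ U := fun a ha => by rw [hU]; exact Submodule.mem_sup_left ha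
  have h3U : av u w 3 ∈ U := by
    rw [hU]; exact Submodule.mem_sup_right (Submodule.mem_span_singleton_self _)
  have h4U : av u w 4 ∈ U := by
    -- `a₄ - (f(4)/β) a₃ = u² (a₂ - (f(4)/β) a₁)`
    have h1 : av u w 2 - ((φ ⬝ᵥ av u w 4) * β⁻¹) • av u w 1 ∈ AA G φ :=
      (AA G φ).sub_mem hA2 ((AA G φ).smul_mem _ hA1)
    have e1 : av u (av u w 2 - ((φ ⬝ᵥ av u w 4) * β⁻¹) • av u w 1) 2 =
        av u w 4 - ((φ ⬝ᵥ av u w 4) * β⁻¹) • av u w 3 := by
      rw [sub_eq_add_neg, ← neg_smul, av_add, av_smul, av_av, av_av, neg_smul, ← sub_eq_add_neg]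
      norm_num
    have h2 := AA_rule huG 2 hA0 h1 (by
      rw [e1, dotProduct_sub, smul_dot, f3, inv_mul_cancel_right₀ hβ, sub_self])
      (by rw [av_av]; norm_num; rw [fm2]; exact hα)
    rw [e1] at h2
    have h3 := U.add_mem (hAU _ h2) (U.smul_mem ((φ ⬝ᵥ av u w 4) * β⁻¹) h3U)
    rwa [sub_add_cancel] at h3
  have hUinv : ∀ a ∈ U, av u a 1 ∈ U := by
    intro a ha
    rw [hU] at ha
    obtain ⟨b, hb, c, hc, rfl⟩ := Submodule.mem_sup.mp ha
    obtain ⟨x, rfl⟩ := Submodule.mem_span_singleton.mp hc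
    rw [av_add, av_smul, av_av]
    apply U.add_mem _ (U.smul_mem _ h4U)
    have h1 : b - ((φ ⬝ᵥ av u b 1) * β⁻¹) • av u w 2 ∈ AA G φ :=
      (AA G φ).sub_mem hb ((AA G φ).smul_mem _ hA2)
    have e1 : av u (b - ((φ ⬝ᵥ av u b 1) * β⁻¹) • av u w 2) 1 =
        av u b 1 - ((φ ⬝ᵥ av u b 1) * β⁻¹) • av u w 3 := by
      rw [sub_eq_add_neg, ← neg_smul, av_add, av_smul, av_av, neg_smul, ← sub_eq_add_neg]
      norm_num
    have h2 := AA_rule huG 1 hAm1 h1 (by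
      rw [e1, dotProduct_sub, smul_dot, f3, inv_mul_cancel_right₀ hβ, sub_self])
      (by rw [av_av]; norm_num; rw [fm2]; exact hα)
    rw [e1] at h2
    have h3 := U.add_mem (hAU _ h2) (U.smul_mem ((φ ⬝ᵥ av u b 1) * β⁻¹) h3U)
    rwa [sub_add_cancel] at h3
  have hfull : Full G φ := by
    apply full_of_span (p := av u w 3) (by rw [f3]; exact hβ)
    rw [← hU]
    apply span_top (by omega) hu _ s
    intro i hi
    have e : av u (el F n (by omega)) (s + i) = av u w i := by rw [hw, av_av, add_comm]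
    rw [e]
    clear hi e
    induction i with
    | zero => rw [Nat.cast_zero]; exact hAU _ hA0
    | succ i ih =>
      have := hUinv _ ih
      rw [av_av, add_comm] at this
      rw [Nat.cast_succ]; exact this
  exact top_of_full (by omega) hu huG hφ hfull

end Cfsg.Agent.H42.CycGen
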