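import Mathlib
import Cfsg.Agent.H42.CycGen2

/-!
Two conjugate regular unipotent elements generating `SL_n(F)`, `n ≥ 5` or characteristic two.
-/

set_option autoImplicit false

namespace Cfsg.Agent.H42.CycGen

open Matrix Cfsg.Agent.H36.SLT Cfsg.Agent.H42.ThreeUnip

variable {F : Type*} [Field F]

theorem fdot {n : ℕ} (hn : 0 < n) {u : SpecialLinearGroup (Fin n) F}
    (hu : (u : Matrix (Fin n) (Fin n) F) = Um F n) (d : ℕ → F) (s m : ℤ) (k : ℕ) (h : m + s = k) :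
    (fun i : Fin n => d (n - 1 - i)) ⬝ᵥ av u (av u (el F n hn) s) m =
      ∑ j ∈ Finset.range n, ((k.choose j : ℕ) : F) * d j := by
  rw [av_av, h, av_natCast, hu, dot_Um_pow]

theorem fdot_lt {n : ℕ} (hn : 0 < n) {u : SpecialLinearGroup (Fin n) F}
    (hu : (u : Matrix (Fin n) (Fin n) F) = Um F n) (d : ℕ → F) (s m : ℤ) (k : ℕ) (h : m + s = k)
    (hk : k < n) :
    (fun i : Fin n => d (n - 1 - i)) ⬝ᵥ av u (av u (el F n hn) s) m =
      ∑ j ∈ Finset.range (k + 1), ((k.choose j : ℕ) : F) * d j := by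
  rw [av_av, h, av_natCast, hu, dot_Um_pow_lt hn d k hk]

/-- the statement: two conjugate regular unipotent elements generate -/
def Pair (F : Type*) [Field F] (n : ℕ) : Prop :=
  ∃ u g : SpecialLinearGroup (Fin n) F, (IsNilpotent ((u : Matrix (Fin n) (Fin n) F) - 1) ∧
      ((u : Matrix (Fin n) (Fin n) F) - 1) ^ (n - 1) ≠ 0) ∧
      Subgroup.closure ({u, g * u * g⁻¹} : Set (SpecialLinearGroup (Fin n) F)) = ⊤

theorem pair_core [Finite F] {n : ℕ} (hn : 5 ≤ n) (d : ℕ → F) (α β : F) (hα : α ≠ 0) (hβ : β ≠ 0)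
    (h0 : d 0 = α) (h1 : d 1 = -α) (h2 : d 2 = α) (h3 : d 3 = -α) (h4 : d 4 = α)
    (h5 : (n = 5 ∧ β = α) ∨ (6 ≤ n ∧ d 5 = β - α)) (hd : d (n - 1) ≠ 0)
    (hS : ∀ S : AddSubgroup F, (1 : F) ∈ S → (∀ x ∈ S, β ^ 2 * α ^ 3 * x ∈ S) →
      (n = 5 → ∀ x ∈ S, 5 * α ^ 3 * x ∈ S) → S = ⊤) : Pair F n := by
  have hn0 : 0 < n := by omega
  obtain ⟨u, hu⟩ : ∃ u : Matrix.SpecialLinearGroup (Fin n) F, (u : Matrix (Fin n) (Fin n) F) = Um F n :=
    ⟨⟨Um F n, Um_det⟩, rfl⟩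
  obtain ⟨w, hw⟩ : ∃ w, w = av u (el F n hn0) 2 := ⟨_, rfl⟩
  obtain ⟨φ, hφ⟩ : ∃ φ : Fin n → F, φ = fun i : Fin n => d (n - 1 - i) := ⟨_, rfl⟩
  have fm2 : φ ⬝ᵥ av u w (-2) = α := by
    rw [hφ, hw, fdot_lt hn0 hu d 2 (-2) 0 (by norm_num) (by omega)]
    simp [Finset.sum_range_succ, h0]
  have fm1 : φ ⬝ᵥ av u w (-1) = 0 := by
    rw [hφ, hw, fdot_lt hn0 hu d 2 (-1) 1 (by norm_num) (by omega)]
    simp [Finset.sum_range_succ, h0, h1]
  have f0 : φ ⬝ᵥ av u w 0 = 0 := by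
    rw [hφ, hw, fdot_lt hn0 hu d 2 0 2 (by norm_num) (by omega)]
    simp [Finset.sum_range_succ, h0, h1, h2]
    ring
  have f1 : φ ⬝ᵥ av u w 1 = 0 := by
    rw [hφ, hw, fdot_lt hn0 hu d 2 1 3 (by norm_num) (by omega)]
    simp [Finset.sum_range_succ, h0, h1, h2, h3, Nat.choose]
  have f2 : φ ⬝ᵥ av u w 2 = 0 := by
    rw [hφ, hw, fdot_lt hn0 hu d 2 2 4 (by norm_num) (by omega)]
    simp [Finset.sum_range_succ, h0, h1, h2, h3, h4, Nat.choose]
    ring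
  have f3 : φ ⬝ᵥ av u w 3 = β := by
    rcases h5 with ⟨h5, hab⟩ | ⟨h5, hab⟩
    · subst h5
      rw [hφ, hw, fdot hn0 hu d 2 3 5 (by norm_num)]
      simp [Finset.sum_range_succ, h0, h1, h2, h3, h4, Nat.choose, hab]
    · rw [hφ, hw, fdot_lt hn0 hu d 2 3 5 (by norm_num) (by omega)]
      simp [Finset.sum_range_succ, h0, h1, h2, h3, h4, Nat.choose, hab]
  have hw0 : av u w 0 = w := av_zero w
  have hφw : φ ⬝ᵥ w = 0 := by rw [← hw0, f0]
  refine ⟨u, T w φ hφw, reg hn0 hu, ?_⟩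
  apply conj_trick (Cfsg.Agent.ClassBase.sl_fin_commutator_eq_top n (by omega))
  · obtain ⟨G, hG⟩ : ∃ G, G = Subgroup.closure ({u, T w φ hφw} : Set (SpecialLinearGroup (Fin n) F)) := ⟨_, rfl⟩
    rw [← hG]
    have huG : u ∈ G := by rw [hG]; exact Subgroup.subset_closure (by simp)
    have htG : T w φ hφw ∈ G := by rw [hG]; exact Subgroup.subset_closure (by simp)
    refine case5 hn hu huG (φ := φ) ?_ hα hβ 2 hw fm2 fm1 f0 f1 f2 f3 ?_ ?_
    · rw [hφ]; simp only [Nat.sub_zero]; exact hd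
    · rw [mem_RR, one_smul, hw0]; exact ⟨hφw, htG⟩
    · intro S h1S h2S h3S
      apply hS S h1S h2S
      intro hn5 x hx
      have f4 : φ ⬝ᵥ av u w 4 = 5 * α := by
        subst hn5
        rw [hφ, hw, fdot hn0 hu d 2 4 6 (by norm_num)]
        simp [Finset.sum_range_succ, h0, h1, h2, h3, h4, Nat.choose]
        ring
      have := h3S x hx
      rw [f4] at this
      have e : 5 * α ^ 3 * x = 5 * α * α ^ 2 * x := by ring
      rw [e]; exact this
  · right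
    rw [conj_T]
    apply T_comm'
    · have := av_succ (u := u) w 0
      rw [hw0] at this
      rw [this, zero_add, f1]
    · rw [← dotProduct_mulVec]
      have : av u w (-1) = ((u⁻¹ : SpecialLinearGroup (Fin n) F) : Matrix (Fin n) (Fin n) F) *ᵥ w := by
        rw [av, _root_.zpow_neg, zpow_one]
      rw [← this, fm1]

theorem pair_coreI [Finite F] (h2 : (2 : F) = 0) {n : ℕ} (hn : 3 ≤ n) (α : F) (hα : α ≠ 0)
    (hS : ∀ S : AddSubgroup F, (1 : F) ∈ S → (∀ x ∈ S, α ^ n * x ∈ S) → S = ⊤) : Pair F n := by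
  have hn0 : 0 < n := by omega
  obtain ⟨u, hu⟩ : ∃ u : Matrix.SpecialLinearGroup (Fin n) F, (u : Matrix (Fin n) (Fin n) F) = Um F n :=
    ⟨⟨Um F n, Um_det⟩, rfl⟩
  obtain ⟨w, hw⟩ : ∃ w, w = av u (el F n hn0) 1 := ⟨_, rfl⟩
  obtain ⟨φ, hφ⟩ : ∃ φ : Fin n → F, φ = fun i : Fin n => (fun _ : ℕ => α) (n - 1 - i) := ⟨_, rfl⟩
  have hsum : ∀ k : ℕ, ∑ j ∈ Finset.range (k + 1), ((k.choose j : ℕ) : F) * α = 2 ^ k * α := by
    intro k
    rw [← Finset.sum_mul, ← Nat.cast_sum, Nat.sum_range_choose, Nat.cast_pow, Nat.cast_ofNat]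
  have fm : φ ⬝ᵥ av u w (-1) = α := by
    rw [hφ, hw, fdot_lt hn0 hu (fun _ => α) 1 (-1) 0 (by norm_num) (by omega)]
    simp
  have f0 : ∀ k : ℕ, k + 1 < n → φ ⬝ᵥ av u w k = 0 := by
    intro k hk
    rw [hφ, hw, fdot_lt hn0 hu (fun _ => α) 1 k (k + 1) (by norm_num) (by omega), hsum, h2, zero_pow (by omega),
      zero_mul]
  have fn : φ ⬝ᵥ av u w ((n - 1 : ℕ) : ℤ) = α := by
    rw [hφ, hw, fdot hn0 hu (fun _ => α) 1 ((n - 1 : ℕ) : ℤ) n (by omega)]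
    have := hsum n
    rw [Finset.sum_range_succ, h2, zero_pow (by omega), zero_mul, Nat.choose_self, Nat.cast_one,
      one_mul] at this
    rw [eq_neg_of_add_eq_zero_left this]
    have : α + α = 0 := by rw [← two_mul, h2, zero_mul]
    exact (eq_neg_of_add_eq_zero_left this).symm
  have hw0 : av u w 0 = w := av_zero w
  have f00 : φ ⬝ᵥ av u w 0 = 0 := by have := f0 0 (by omega); rwa [Nat.cast_zero] at this
  have hφw : φ ⬝ᵥ w = 0 := by rw [← hw0, f00]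
  refine ⟨u, T w φ hφw, reg hn0 hu, ?_⟩
  apply conj_trick (Cfsg.Agent.ClassBase.sl_fin_commutator_eq_top n (by omega))
  · obtain ⟨G, hG⟩ : ∃ G, G = Subgroup.closure ({u, T w φ hφw} : Set (SpecialLinearGroup (Fin n) F)) := ⟨_, rfl⟩
    rw [← hG]
    have huG : u ∈ G := by rw [hG]; exact Subgroup.subset_closure (by simp)
    have htG : T w φ hφw ∈ G := by rw [hG]; exact Subgroup.subset_closure (by simp)
    refine caseI hn hu huG (φ := φ) ?_ hα 1 hw fm f0 fn ?_ hS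
    · rw [hφ]; exact hα
    · rw [mem_RR, one_smul, hw0]; exact ⟨hφw, htG⟩
  · left
    rw [T_mul_same_right]
    have e : w + w = 0 := by rw [← two_smul F, h2, zero_smul]
    rw [T_congr e rfl, T_zero_left]

/-- a generator of the multiplicative group -/
theorem exists_gen [Finite F] : ∃ θ : F, θ ≠ 0 ∧ ∀ x : F, x ≠ 0 → ∃ k : ℕ, θ ^ k = x := by
  obtain ⟨g0, hg0⟩ := IsCyclic.exists_generator (α := Fˣ)
  refine ⟨(g0 : F), g0.ne_zero, fun x hx => ?_⟩
  have h1 : Units.mk0 x hx ∈ Submonoid.powers g0 := by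
    rw [mem_powers_iff_mem_zpowers]
    exact hg0 _
  obtain ⟨k, hk⟩ := h1
  have hk' : g0 ^ k = Units.mk0 x hx := hk
  exact ⟨k, by rw [← Units.val_pow_eq_pow_val, hk']; rfl⟩

theorem S_pow {κ : F} (h : ∀ x : F, x ≠ 0 → ∃ k : ℕ, κ ^ k = x) (S : AddSubgroup F) (h1 : (1 : F) ∈ S)
    (hm : ∀ x ∈ S, κ * x ∈ S) : S = ⊤ := by
  have h2 : ∀ k : ℕ, κ ^ k ∈ S := by
    intro k
    induction k with
    | zero => rw [pow_zero]; exact h1
    | succ k ih => rw [pow_succ']; exact hm _ ih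
  rw [eq_top_iff]
  intro x _
  by_cases hx : x = 0
  · rw [hx]; exact S.zero_mem
  · obtain ⟨k, hk⟩ := h x hx
    rw [← hk]; exact h2 k

theorem S_prime (h : (Nat.card F).Prime) (S : AddSubgroup F) (x : F) (hx : x ≠ 0) (h1 : x ∈ S) : S = ⊤ := by
  haveI := Fact.mk h
  rcases AddSubgroup.eq_bot_or_eq_top_of_prime_card S with h2 | h2
  · rw [h2, AddSubgroup.mem_bot] at h1
    exact absurd h1 hx
  · exact h2

/-- coprime powers of a generator are generators -/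
theorem gen_pow [Finite F] {θ : F} (hθ0 : θ ≠ 0) (hθ : ∀ x : F, x ≠ 0 → ∃ k : ℕ, θ ^ k = x) (m : ℕ)
    (hm : m.Coprime (Nat.card F - 1)) : ∀ x : F, x ≠ 0 → ∃ k : ℕ, (θ ^ m) ^ k = x := by
  haveI := Fintype.ofFinite F
  intro x hx
  have hcard : 2 ≤ Nat.card F := Finite.one_lt_card
  obtain ⟨k, hk⟩ := hθ x hx
  by_cases h1 : Nat.card F - 1 = 1
  · refine ⟨0, ?_⟩
    rw [pow_zero]
    have h3 : x ^ (Nat.card F - 1) = 1 := by
      rw [Nat.card_eq_fintype_card]; exact FiniteField.pow_card_sub_one_eq_one x hx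
    rw [h1, pow_one] at h3
    exact h3.symm
  · obtain ⟨a, ha⟩ := Nat.exists_mul_mod_eq_one_of_coprime hm (by omega)
    refine ⟨a * k, ?_⟩
    have h2 : θ ^ (m * a) = θ := by
      obtain ⟨b, hb⟩ : ∃ b, m * a = 1 + (Nat.card F - 1) * b := by
        refine ⟨m * a / (Nat.card F - 1), ?_⟩
        have := Nat.mod_add_div (m * a) (Nat.card F - 1)
        rw [ha.2] at this
        exact this.symm
      have h3 : θ ^ (Nat.card F - 1) = 1 := by
        rw [Nat.card_eq_fintype_card]; exact FiniteField.pow_card_sub_one_eq_one θ hθ0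
      rw [hb, pow_add, pow_one, pow_mul, h3, one_pow, mul_one]
    rw [← pow_mul, ← mul_assoc, pow_mul, h2, hk]

end Cfsg.Agent.H42.CycGen
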