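import Mathlib
import Cfsg.Agent.H42.CycGen3

/-!
Two conjugate regular unipotent elements generating `SL_n(F)`, `n ≥ 5`: choice of parameters.
-/

set_option autoImplicit false

namespace Cfsg.Agent.H42.CycGen

open Matrix Cfsg.Agent.H36.SLT Cfsg.Agent.H42.ThreeUnip

variable {F : Type*} [Field F]

theorem prime_dvd_card [Finite F] {p : ℕ} (hp : p.Prime) (h : (p : F) = 0) : p ∣ Nat.card F := by
  have h1 : addOrderOf (1 : F) ∣ p := by
    rw [addOrderOf_dvd_iff_nsmul_eq_zero, nsmul_eq_mul, h, zero_mul]
  have h2 : addOrderOf (1 : F) ≠ 1 := by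
    rw [Ne, AddMonoid.addOrderOf_eq_one_iff]; exact one_ne_zero
  rw [← (Nat.dvd_prime hp).mp h1 |>.resolve_left h2]
  exact addOrderOf_dvd_natCard 1

theorem cast_eq_zero_of_dvd_card [Finite F] {p : ℕ} (hp : p.Prime) (h : p ∣ Nat.card F) : (p : F) = 0 := by
  haveI := Fintype.ofFinite F
  haveI := Fact.mk hp
  obtain ⟨x, hx⟩ := exists_prime_addOrderOf_dvd_card' (G := F) p h
  have h1 : p • x = 0 := by rw [← hx]; exact addOrderOf_nsmul_eq_zero x
  have hx0 : x ≠ 0 := by
    intro h0
    rw [h0, addOrderOf_zero] at hx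
    exact hp.one_lt.ne hx
  rw [nsmul_eq_mul] at h1
  exact (mul_eq_zero.mp h1).resolve_right hx0

/-- division by a non-zero natural number inside an additive subgroup -/
theorem mem_of_mul_mem [Finite F] {m : ℕ} (hm : m.Prime) (hm0 : (m : F) ≠ 0) (S : AddSubgroup F) (y : F)
    (h : (m : F) * y ∈ S) : y ∈ S := by
  have hp : (ringChar F).Prime := by
    haveI := Fintype.ofFinite F
    exact CharP.char_is_prime F (ringChar F)
  have hc : (m : ℕ).Coprime (ringChar F) := by
    rw [Nat.coprime_primes hm hp]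
    intro h1
    apply hm0
    rw [h1]
    exact ringChar.Nat.cast_ringChar
  obtain ⟨a, b, hab⟩ := Nat.isCoprime_iff_coprime.mpr hc
  have h1 : y = a • ((m : F) * y) + b • (((ringChar F : ℕ) : F) * y) := by
    have e : y = ((a * (m : ℤ) + b * (ringChar F : ℤ) : ℤ) : F) * y := by rw [hab]; simp
    conv_lhs => rw [e]
    rw [zsmul_eq_mul, zsmul_eq_mul]
    push_cast
    ring
  rw [h1, ringChar.Nat.cast_ringChar, zero_mul, zsmul_zero, add_zero]
  exact S.zsmul_mem h a

theorem S_five [Finite F] {θ : F} (hθ0 : θ ≠ 0) (hθ : ∀ x : F, x ≠ 0 → ∃ k : ℕ, θ ^ k = x)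
    (S : AddSubgroup F) (h1 : (1 : F) ∈ S) (h5 : ∀ x ∈ S, θ ^ 5 * x ∈ S)
    (h3 : ∀ x ∈ S, 5 * θ ^ 3 * x ∈ S) : S = ⊤ := by
  haveI := Fintype.ofFinite F
  have hcard : 2 ≤ Nat.card F := Finite.one_lt_card
  by_cases hF : (5 : F) = 0
  · have hd : 5 ∣ Nat.card F := prime_dvd_card (by norm_num) (by exact_mod_cast hF)
    apply S_pow (gen_pow hθ0 hθ 5 ?_) S h1 h5
    rw [Nat.Prime.coprime_iff_not_dvd (by norm_num)]
    omega
  · have h3' : ∀ x ∈ S, θ ^ 3 * x ∈ S := by
      intro x hx
      apply mem_of_mul_mem (m := 5) (by norm_num) (by exact_mod_cast hF) S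
      have := h3 x hx
      rw [mul_assoc] at this
      exact_mod_cast this
    apply S_pow hθ S h1
    intro x hx
    have hi : ∀ i : ℕ, ∀ y ∈ S, (θ ^ 5) ^ i * y ∈ S := by
      intro i
      induction i with
      | zero => intro y hy; rw [pow_zero, one_mul]; exact hy
      | succ i ih => intro y hy; rw [pow_succ', mul_assoc]; exact h5 _ (ih y hy)
    have hj : ∀ i : ℕ, ∀ y ∈ S, (θ ^ 3) ^ i * y ∈ S := by
      intro i
      induction i with
      | zero => intro y hy; rw [pow_zero, one_mul]; exact hy
      | succ i ih => intro y hy; rw [pow_succ', mul_assoc]; exact h3' _ (ih y hy)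
    obtain ⟨i, j, hij⟩ : ∃ i j : ℕ, 5 * i + 3 * j = 1 + (Nat.card F - 1) * 8 := by
      obtain ⟨N, hN⟩ : ∃ N, N = 1 + (Nat.card F - 1) * 8 := ⟨_, rfl⟩
      rw [← hN]
      have : 8 ≤ N := by omega
      have h := Nat.div_add_mod N 3
      have h' := Nat.mod_lt N (by norm_num : 0 < 3)
      interval_cases hr : N % 3
      · exact ⟨0, N / 3, by omega⟩
      · exact ⟨2, N / 3 - 3, by omega⟩
      · exact ⟨1, N / 3 - 1, by omega⟩
    have h6 := hi i _ (hj j x hx)
    rw [← mul_assoc, ← pow_mul, ← pow_mul, ← pow_add, hij, pow_add, pow_one, pow_mul,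
      Nat.card_eq_fintype_card, FiniteField.pow_card_sub_one_eq_one θ hθ0, one_pow, mul_one] at h6
    exact h6

theorem pair_ge5 [Finite F] {n : ℕ} (hn : 5 ≤ n) : Pair F n := by
  haveI := Fintype.ofFinite F
  have hcard : 2 ≤ Nat.card F := Finite.one_lt_card
  obtain ⟨θ, hθ0, hθ⟩ := exists_gen (F := F)
  by_cases hq2 : Nat.card F = 2
  · have h2 : (2 : F) = 0 := by
      have := cast_eq_zero_of_dvd_card (F := F) Nat.prime_two (by rw [hq2])
      exact_mod_cast this
    exact pair_coreI h2 (by omega) 1 one_ne_zero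
      (fun S h1 _ => S_prime (by rw [hq2]; exact Nat.prime_two) S 1 one_ne_zero h1)
  by_cases h7 : 7 ≤ n
  · apply pair_core hn (fun j => if j = 0 then θ else if j = 1 then -θ else if j = 2 then θ else
      if j = 3 then -θ else if j = 4 then θ else if j = 5 then θ⁻¹ - θ else if j + 1 = n then 1 else 0)
      θ θ⁻¹ hθ0 (inv_ne_zero hθ0) (by simp) (by simp) (by simp) (by simp) (by simp)
      (Or.inr ⟨by omega, by simp⟩)
    · skip
      rw [if_neg (by omega), if_neg (by omega), if_neg (by omega), if_neg (by omega), if_neg (by omega),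
        if_neg (by omega), if_pos (by omega)]
      exact one_ne_zero
    · intro S h1 h2 _
      apply S_pow hθ S h1
      intro x hx
      have := h2 x hx
      have e : θ⁻¹ ^ 2 * θ ^ 3 = θ := by field_simp
      rwa [e] at this
  by_cases h6 : n = 6
  · subst h6
    by_cases hq3 : Nat.card F = 3
    · apply pair_core hn (fun j => if j = 0 then 1 else if j = 1 then -1 else if j = 2 then 1 else
        if j = 3 then -1 else if j = 4 then 1 else -2)
        1 (-1) one_ne_zero (neg_ne_zero.mpr one_ne_zero) (by simp) (by simp) (by simp) (by simp) (by simp)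
        (Or.inr ⟨by omega, by simp; norm_num⟩)
      · simp
        intro h2
        have := prime_dvd_card (F := F) Nat.prime_two (by exact_mod_cast h2)
        rw [hq3] at this
        omega
      · intro S h1 _ _
        exact S_prime (by rw [hq3]; exact Nat.prime_three) S 1 one_ne_zero h1
    · have hne : θ⁻¹ - θ ≠ 0 := by
        intro h
        have h1 : θ ^ 2 = 1 := by
          have : θ⁻¹ = θ := sub_eq_zero.mp h
          rw [pow_two]
          nth_rw 1 [← this]
          exact inv_mul_cancel₀ hθ0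
        have h2 : ∀ x : F, x ∈ ({0, 1, θ} : Set F) := by
          intro x
          by_cases hx : x = 0
          · simp [hx]
          · obtain ⟨k, hk⟩ := hθ x hx
            rcases Nat.even_or_odd' k with ⟨m, rfl | rfl⟩
            · rw [pow_mul, h1, one_pow] at hk
              simp [← hk]
            · rw [pow_add, pow_mul, h1, one_pow, one_mul, pow_one] at hk
              simp [← hk]
        have h3 : (Set.univ : Set F) ⊆ {0, 1, θ} := fun x _ => h2 x
        have h4 := Set.ncard_le_ncard h3 (Set.toFinite _)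
        rw [Set.ncard_univ] at h4
        have h5 : ({0, 1, θ} : Set F).ncard ≤ 3 := by
          refine (Set.ncard_insert_le _ _).trans ?_
          have := Set.ncard_insert_le (1 : F) {θ}
          rw [Set.ncard_singleton] at this
          omega
        omega
      apply pair_core hn (fun j => if j = 0 then θ else if j = 1 then -θ else if j = 2 then θ else
        if j = 3 then -θ else if j = 4 then θ else θ⁻¹ - θ)
        θ θ⁻¹ hθ0 (inv_ne_zero hθ0) (by simp) (by simp) (by simp) (by simp) (by simp)
        (Or.inr ⟨by omega, by simp⟩)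
      · simpa using hne
      · intro S h1 h2 _
        apply S_pow hθ S h1
        intro x hx
        have := h2 x hx
        have e : θ⁻¹ ^ 2 * θ ^ 3 = θ := by field_simp
        rwa [e] at this
  have h5 : n = 5 := by omega
  subst h5
  apply pair_core hn (fun j => if j = 0 then θ else if j = 1 then -θ else if j = 2 then θ else
    if j = 3 then -θ else θ) θ θ hθ0 hθ0 (by simp) (by simp) (by simp) (by simp) (by simp)
    (Or.inl ⟨rfl, rfl⟩)
  · simpa using hθ0
  · intro S h1 h2 h3
    apply S_five hθ0 hθ S h1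
    · intro x hx
      have := h2 x hx
      rwa [← pow_add] at this
    · exact h3 rfl

theorem pair_even_four [Finite F] (h2 : (2 : F) = 0) : Pair F 4 := by
  have hcard : 2 ≤ Nat.card F := Finite.one_lt_card
  obtain ⟨θ, hθ0, hθ⟩ := exists_gen (F := F)
  have hd : 2 ∣ Nat.card F := prime_dvd_card Nat.prime_two (by exact_mod_cast h2)
  apply pair_coreI h2 (by norm_num) θ hθ0
  intro S h1 h3
  apply S_pow (gen_pow hθ0 hθ 4 ?_) S h1 h3
  have : (2 ^ 2).Coprime (Nat.card F - 1) := by
    apply Nat.Coprime.pow_left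
    rw [Nat.Prime.coprime_iff_not_dvd Nat.prime_two]
    omega
  exact this

end Cfsg.Agent.H42.CycGen
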