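import Mathlib
import Cfsg.Agent.H42.CycGen4

/-!
Two regular unipotent elements generating `SL_4(F)`, odd characteristic.
-/

set_option autoImplicit false

namespace Cfsg.Agent.H42.CycGen

open Matrix Cfsg.Agent.H36.SLT Cfsg.Agent.H42.ThreeUnip

variable {F : Type*} [Field F]

/-- conjugation by an invertible matrix, as an endomorphism of `SL` -/
def sig {n : ℕ} (X X' : Matrix (Fin n) (Fin n) F) (h : X * X' = 1) :
    SpecialLinearGroup (Fin n) F →* SpecialLinearGroup (Fin n) F where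
  toFun g := ⟨X * (g : Matrix (Fin n) (Fin n) F) * X', by
    rw [det_mul, det_mul, g.2, mul_one, ← det_mul, h, det_one]⟩
  map_one' := by
    apply Subtype.ext
    show X * (1 : Matrix (Fin n) (Fin n) F) * X' = 1
    rw [mul_one, h]
  map_mul' := by
    intro a b
    have h' : X' * X = 1 := _root_.mul_eq_one_comm.mp h
    apply Subtype.ext
    show X * ((a : Matrix (Fin n) (Fin n) F) * (b : Matrix (Fin n) (Fin n) F)) * X' =
      (X * (a : Matrix (Fin n) (Fin n) F) * X') * (X * (b : Matrix (Fin n) (Fin n) F) * X')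
    calc _ = X * (a : Matrix (Fin n) (Fin n) F) * 1 * (b : Matrix (Fin n) (Fin n) F) * X' := by
          rw [mul_one]; noncomm_ring
      _ = _ := by rw [← h']; noncomm_ring

theorem sig_coe {n : ℕ} (X X' : Matrix (Fin n) (Fin n) F) (h : X * X' = 1)
    (g : SpecialLinearGroup (Fin n) F) :
    ((sig X X' h g : SpecialLinearGroup (Fin n) F) : Matrix (Fin n) (Fin n) F) =
      X * (g : Matrix (Fin n) (Fin n) F) * X' := rfl

/-- homologies -/
def Hm {n : ℕ} (r : F) (a φ : Fin n → F) : Matrix (Fin n) (Fin n) F := 1 + (r - 1) • vecMulVec a φ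

theorem Hm_mul {n : ℕ} {r s : F} {a φ : Fin n → F} (h : φ ⬝ᵥ a = 1) : Hm r a φ * Hm s a φ = Hm (r * s) a φ := by
  simp only [Hm]
  rw [add_mul, mul_add, mul_add, one_mul, one_mul, mul_one, smul_mul_smul_comm, vecMulVec_mul_vecMulVec, h,
    one_smul, add_assoc, ← add_smul, ← add_smul]
  congr 2
  ring

theorem Hm_one {n : ℕ} {a φ : Fin n → F} : Hm 1 a φ = 1 := by
  simp [Hm]

theorem Hm_mul_inv {n : ℕ} {r : F} (hr : r ≠ 0) {a φ : Fin n → F} (h : φ ⬝ᵥ a = 1) :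
    Hm r a φ * Hm r⁻¹ a φ = 1 := by
  rw [Hm_mul h, mul_inv_cancel₀ hr, Hm_one]

theorem Hm_mul_inv' {n : ℕ} {r : F} (hr : r ≠ 0) {a φ : Fin n → F} (h : φ ⬝ᵥ a = 1) :
    Hm r⁻¹ a φ * Hm r a φ = 1 := by
  rw [Hm_mul h, inv_mul_cancel₀ hr, Hm_one]

theorem conj_Hm {n : ℕ} (g : SpecialLinearGroup (Fin n) F) (r : F) (a φ : Fin n → F) :
    (g : Matrix (Fin n) (Fin n) F) * Hm r a φ *
      ((g⁻¹ : SpecialLinearGroup (Fin n) F) : Matrix (Fin n) (Fin n) F) =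
    Hm r ((g : Matrix (Fin n) (Fin n) F) *ᵥ a)
      (φ ᵥ* ((g⁻¹ : SpecialLinearGroup (Fin n) F) : Matrix (Fin n) (Fin n) F)) := by
  simp only [Hm]
  rw [mul_add, mul_one, add_mul, mul_inv_coe, mul_smul_comm, smul_mul_assoc, mul_vecMulVec, vecMulVec_mul]

theorem Hm_commute {n : ℕ} {r s : F} {a b φ ψ : Fin n → F} (h1 : φ ⬝ᵥ b = 0) (h2 : ψ ⬝ᵥ a = 0) :
    Hm r a φ * Hm s b ψ = Hm s b ψ * Hm r a φ := by
  simp only [Hm]
  rw [add_mul, mul_add, mul_add, one_mul, one_mul, mul_one, smul_mul_smul_comm, vecMulVec_mul_vecMulVec, h1,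
    add_mul, mul_add, mul_add, one_mul, one_mul, mul_one, smul_mul_smul_comm, vecMulVec_mul_vecMulVec, h2]
  simp only [zero_smul, vecMulVec_zero, smul_zero, add_zero]
  abel

theorem Hm_commutator {n : ℕ} {r : F} (hr : r ≠ 0) {a b φ ψ : Fin n → F} (h : φ ⬝ᵥ a = 1)
    (h' : ψ ⬝ᵥ b = 1) (h1 : φ ⬝ᵥ b = 0) :
    Hm r a φ * Hm r b ψ * (Hm r⁻¹ a φ * Hm r⁻¹ b ψ) =
      1 + vecMulVec (((r - 1) * (r⁻¹ - 1) * (ψ ⬝ᵥ a)) • b) φ := by
  have e1 : ∀ x : F, Hm x a φ * Hm x b ψ = 1 + ((x - 1) • vecMulVec a φ + (x - 1) • vecMulVec b ψ) := by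
    intro x
    simp only [Hm]
    rw [add_mul, mul_add, mul_add, one_mul, one_mul, mul_one, smul_mul_smul_comm, vecMulVec_mul_vecMulVec, h1]
    simp only [zero_smul, vecMulVec_zero, smul_zero, add_zero]
    abel
  rw [e1, e1, mul_add, mul_one, add_mul, one_mul, add_mul, mul_add, mul_add, smul_mul_smul_comm,
    smul_mul_smul_comm, smul_mul_smul_comm, smul_mul_smul_comm, vecMulVec_mul_vecMulVec,
    vecMulVec_mul_vecMulVec, vecMulVec_mul_vecMulVec, vecMulVec_mul_vecMulVec, h, h1, h', one_smul, one_smul,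
    zero_smul, vecMulVec_zero, smul_zero, add_zero, smul_vecMulVec]
  have e2 : (r - 1) * (r⁻¹ - 1) = -((r - 1) + (r⁻¹ - 1)) := by field_simp; ring
  have e3 : vecMulVec b ((ψ ⬝ᵥ a) • φ) = (ψ ⬝ᵥ a) • vecMulVec b φ := by
    ext i j; simp [vecMulVec_apply]; ring
  rw [e3, smul_smul, e2]
  module

section Homology

variable {n : ℕ} {H : Subgroup (SpecialLinearGroup (Fin n) F)} {r : F} {a φ : Fin n → F}

theorem hom_gen (hr : r ≠ 0) (h : φ ⬝ᵥ a = 1)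
    (hs : ∀ g ∈ H, sig (Hm r a φ) (Hm r⁻¹ a φ) (Hm_mul_inv hr h) g ∈ H)
    {w : SpecialLinearGroup (Fin n) F} (hw : w ∈ H)
    (h1 : φ ⬝ᵥ ((w : Matrix (Fin n) (Fin n) F) *ᵥ a) = 0) :
    Has H (((r - 1) * (r⁻¹ - 1) * (φ ⬝ᵥ (((w⁻¹ : SpecialLinearGroup (Fin n) F) :
      Matrix (Fin n) (Fin n) F) *ᵥ a))) • ((w : Matrix (Fin n) (Fin n) F) *ᵥ a)) φ := by
  obtain ⟨s, hsd⟩ : ∃ s, s = sig (Hm r a φ) (Hm r⁻¹ a φ) (Hm_mul_inv hr h) := ⟨_, rfl⟩
  have hs' : ∀ g ∈ H, s g ∈ H := by rw [hsd]; exact hs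
  have hm : s (w * (s w)⁻¹) * (s w * w⁻¹) ∈ H :=
    H.mul_mem (hs' _ (H.mul_mem hw (H.inv_mem (hs' _ hw)))) (H.mul_mem (hs' _ hw) (H.inv_mem hw))
  have h0 : φ ⬝ᵥ (((r - 1) * (r⁻¹ - 1) * (φ ⬝ᵥ (((w⁻¹ : SpecialLinearGroup (Fin n) F) :
      Matrix (Fin n) (Fin n) F) *ᵥ a))) • ((w : Matrix (Fin n) (Fin n) F) *ᵥ a)) = 0 := by
    rw [smul_dot, h1, mul_zero]
  refine ⟨h0, ?_⟩
  have e : s (w * (s w)⁻¹) * (s w * w⁻¹) = T _ φ h0 := by
    apply ext'
    rw [coe_T]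
    have e1 : ((s (w * (s w)⁻¹) * (s w * w⁻¹) : SpecialLinearGroup (Fin n) F) : Matrix (Fin n) (Fin n) F) =
      ((s (w * s w⁻¹) : SpecialLinearGroup (Fin n) F) : Matrix (Fin n) (Fin n) F) *
        (((s w : SpecialLinearGroup (Fin n) F) : Matrix (Fin n) (Fin n) F) *
        ((w⁻¹ : SpecialLinearGroup (Fin n) F) : Matrix (Fin n) (Fin n) F)) := by
      rw [map_inv]; rfl
    rw [e1]
    have e2 : ((s (w * s w⁻¹) : SpecialLinearGroup (Fin n) F) : Matrix (Fin n) (Fin n) F) =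
        Hm r a φ * ((w : Matrix (Fin n) (Fin n) F) * (Hm r a φ *
          ((w⁻¹ : SpecialLinearGroup (Fin n) F) : Matrix (Fin n) (Fin n) F) * Hm r⁻¹ a φ)) * Hm r⁻¹ a φ := by
      rw [hsd]; rfl
    have e3 : ((s w : SpecialLinearGroup (Fin n) F) : Matrix (Fin n) (Fin n) F) =
        Hm r a φ * (w : Matrix (Fin n) (Fin n) F) * Hm r⁻¹ a φ := by
      rw [hsd]; rfl
    rw [e2, e3]
    have k1 := Hm_mul_inv' hr h
    have k2 := conj_Hm w r a φ
    have k3 := conj_Hm w r⁻¹ a φ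
    have k4 : (φ ᵥ* ((w⁻¹ : SpecialLinearGroup (Fin n) F) : Matrix (Fin n) (Fin n) F)) ⬝ᵥ
        ((w : Matrix (Fin n) (Fin n) F) *ᵥ a) = 1 := by
      rw [← dotProduct_mulVec, mulVec_mulVec, inv_mul_coe, one_mulVec, h]
    have k5 := Hm_commutator hr h k4 h1
    rw [← dotProduct_mulVec] at k5
    rw [← k5, ← k2, ← k3]
    calc Hm r a φ * ((w : Matrix (Fin n) (Fin n) F) * (Hm r a φ *
          ((w⁻¹ : SpecialLinearGroup (Fin n) F) : Matrix (Fin n) (Fin n) F) * Hm r⁻¹ a φ)) * Hm r⁻¹ a φ *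
          (Hm r a φ * (w : Matrix (Fin n) (Fin n) F) * Hm r⁻¹ a φ *
            ((w⁻¹ : SpecialLinearGroup (Fin n) F) : Matrix (Fin n) (Fin n) F))
        = Hm r a φ * ((w : Matrix (Fin n) (Fin n) F) * Hm r a φ *
          ((w⁻¹ : SpecialLinearGroup (Fin n) F) : Matrix (Fin n) (Fin n) F)) * Hm r⁻¹ a φ *
          (Hm r⁻¹ a φ * Hm r a φ) * ((w : Matrix (Fin n) (Fin n) F) * Hm r⁻¹ a φ *
            ((w⁻¹ : SpecialLinearGroup (Fin n) F) : Matrix (Fin n) (Fin n) F)) := by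
          simp only [mul_assoc]
      _ = _ := by rw [k1, mul_one]; simp only [mul_assoc]
  rw [← e]
  exact hm

theorem hom_smul (hr : r ≠ 0) (h : φ ⬝ᵥ a = 1)
    (hs : ∀ g ∈ H, sig (Hm r a φ) (Hm r⁻¹ a φ) (Hm_mul_inv hr h) g ∈ H) {x : F} {b : Fin n → F}
    (hb : φ ⬝ᵥ b = 0) (hx : x ∈ RR H b φ) : r⁻¹ * x ∈ RR H b φ := by
  rw [mem_RR] at hx ⊢
  obtain ⟨h1, h2⟩ := hx
  have h3 := hs _ h2
  have h4 : φ ⬝ᵥ ((r⁻¹ * x) • b) = 0 := by rw [smul_dot, hb, mul_zero]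
  refine ⟨h4, ?_⟩
  have e : sig (Hm r a φ) (Hm r⁻¹ a φ) (Hm_mul_inv hr h) (T (x • b) φ h1) = T ((r⁻¹ * x) • b) φ h4 := by
    apply ext'
    rw [sig_coe, coe_T, coe_T, mul_add, mul_one, add_mul, Hm_mul_inv hr h, mul_vecMulVec, vecMulVec_mul]
    congr 1
    have e1 : Hm r a φ *ᵥ (x • b) = x • b := by
      rw [Hm, add_mulVec, one_mulVec, smul_mulVec, vecMulVec_mulVec, smul_dot, hb, mul_zero]
      simp
    have e2 : φ ᵥ* Hm r⁻¹ a φ = r⁻¹ • φ := by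
      rw [Hm, vecMul_add, vecMul_one, vecMul_smul, vecMul_vecMulVec, h, one_smul]
      ext i
      simp
      ring
    rw [e1, e2]
    ext i j
    simp [vecMulVec_apply]
    ring
  rw [← e]
  exact h3

end Homology

theorem sig_reg {n : ℕ} {X X' : Matrix (Fin n) (Fin n) F} (h : X * X' = 1)
    {u : SpecialLinearGroup (Fin n) F} (hu : IsNilpotent ((u : Matrix (Fin n) (Fin n) F) - 1) ∧
      ((u : Matrix (Fin n) (Fin n) F) - 1) ^ (n - 1) ≠ 0) :
    IsNilpotent (((sig X X' h u : SpecialLinearGroup (Fin n) F) : Matrix (Fin n) (Fin n) F) - 1) ∧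
      (((sig X X' h u : SpecialLinearGroup (Fin n) F) : Matrix (Fin n) (Fin n) F) - 1) ^ (n - 1) ≠ 0 := by
  have h' : X' * X = 1 := _root_.mul_eq_one_comm.mp h
  have e : ((sig X X' h u : SpecialLinearGroup (Fin n) F) : Matrix (Fin n) (Fin n) F) - 1 =
      X * ((u : Matrix (Fin n) (Fin n) F) - 1) * X' := by
    rw [sig_coe, mul_sub, sub_mul, mul_one, h]
  have e2 : ∀ k : ℕ, (X * ((u : Matrix (Fin n) (Fin n) F) - 1) * X') ^ k =
      X * ((u : Matrix (Fin n) (Fin n) F) - 1) ^ k * X' := by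
    intro k
    induction k with
    | zero => rw [pow_zero, pow_zero, mul_one, h]
    | succ k ih =>
      rw [pow_succ, ih, pow_succ]
      calc X * ((u : Matrix (Fin n) (Fin n) F) - 1) ^ k * X' * (X * ((u : Matrix (Fin n) (Fin n) F) - 1) * X')
          = X * ((u : Matrix (Fin n) (Fin n) F) - 1) ^ k * (X' * X) *
            ((u : Matrix (Fin n) (Fin n) F) - 1) * X' := by simp only [mul_assoc]
        _ = _ := by rw [h', mul_one]; simp only [mul_assoc]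
  rw [e]
  obtain ⟨⟨k, hk⟩, h3⟩ := hu
  refine ⟨⟨k, ?_⟩, ?_⟩
  · rw [e2, hk, mul_zero, zero_mul]
  · rw [e2]
    intro h4
    apply h3
    have h5 : X' * (X * ((u : Matrix (Fin n) (Fin n) F) - 1) ^ (n - 1) * X') * X = 0 := by
      rw [h4, mul_zero, zero_mul]
    have h6 : X' * (X * ((u : Matrix (Fin n) (Fin n) F) - 1) ^ (n - 1) * X') * X =
        (X' * X) * ((u : Matrix (Fin n) (Fin n) F) - 1) ^ (n - 1) * (X' * X) := by simp only [mul_assoc]
    rw [h6, h', one_mul, mul_one] at h5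
    exact h5

theorem four_odd [Finite F] (h2 : (2 : F) ≠ 0) :
    ∃ u v : SpecialLinearGroup (Fin 4) F, (IsNilpotent ((u : Matrix (Fin 4) (Fin 4) F) - 1) ∧
        ((u : Matrix (Fin 4) (Fin 4) F) - 1) ^ (4 - 1) ≠ 0) ∧
      (IsNilpotent ((v : Matrix (Fin 4) (Fin 4) F) - 1) ∧
        ((v : Matrix (Fin 4) (Fin 4) F) - 1) ^ (4 - 1) ≠ 0) ∧
      Subgroup.closure ({u, v} : Set (SpecialLinearGroup (Fin 4) F)) = ⊤ := by
  have hn0 : 0 < 4 := by norm_num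
  obtain ⟨θ, hθ0, hθ⟩ := exists_gen (F := F)
  obtain ⟨u, hu⟩ : ∃ u : Matrix.SpecialLinearGroup (Fin 4) F, (u : Matrix (Fin 4) (Fin 4) F) = Um F 4 :=
    ⟨⟨Um F 4, Um_det⟩, rfl⟩
  obtain ⟨d, hd⟩ : ∃ d : ℕ → F, d = fun j => if j = 0 then -16 else if j = 1 then 11 else
    if j = 2 then -6 else 2 := ⟨_, rfl⟩
  obtain ⟨a, ha⟩ : ∃ a, a = av u (el F 4 hn0) 3 := ⟨_, rfl⟩
  obtain ⟨φ, hφ⟩ : ∃ φ : Fin 4 → F, φ = fun i : Fin 4 => d (4 - 1 - i) := ⟨_, rfl⟩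
  have fm3 : φ ⬝ᵥ av u a (-3) = -16 := by
    rw [hφ, ha, fdot hn0 hu d 3 (-3) 0 (by norm_num)]
    simp [Finset.sum_range_succ, hd]
  have fm1 : φ ⬝ᵥ av u a (-1) = 0 := by
    rw [hφ, ha, fdot hn0 hu d 3 (-1) 2 (by norm_num)]
    simp [Finset.sum_range_succ, hd, Nat.choose]
    ring
  have f0 : φ ⬝ᵥ av u a 0 = 1 := by
    rw [hφ, ha, fdot hn0 hu d 3 0 3 (by norm_num)]
    simp [Finset.sum_range_succ, hd, Nat.choose]
    ring
  have f1 : φ ⬝ᵥ av u a 1 = 0 := by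
    rw [hφ, ha, fdot hn0 hu d 3 1 4 (by norm_num)]
    simp [Finset.sum_range_succ, hd, Nat.choose]
    ring
  have f3 : φ ⬝ᵥ av u a 3 = 0 := by
    rw [hφ, ha, fdot hn0 hu d 3 3 6 (by norm_num)]
    simp [Finset.sum_range_succ, hd, Nat.choose]
    ring
  have f5 : φ ⬝ᵥ av u a 5 = 16 := by
    rw [hφ, ha, fdot hn0 hu d 3 5 8 (by norm_num)]
    simp [Finset.sum_range_succ, hd, Nat.choose]
    ring
  have h16 : (16 : F) ≠ 0 := by
    have : (16 : F) = 2 ^ 4 := by norm_num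
    rw [this]; exact pow_ne_zero _ h2
  have ha0 : av u a 0 = a := av_zero a
  have hφa : φ ⬝ᵥ a = 1 := by rw [← ha0, f0]
  obtain ⟨s, hs⟩ : ∃ s, s = sig (Hm θ a φ) (Hm θ⁻¹ a φ) (Hm_mul_inv hθ0 hφa) := ⟨_, rfl⟩
  refine ⟨u, s u, reg hn0 hu, by rw [hs]; exact sig_reg _ (reg hn0 hu), ?_⟩
  obtain ⟨G, hG⟩ : ∃ G, G = Subgroup.closure ({u, s u} : Set (SpecialLinearGroup (Fin 4) F)) := ⟨_, rfl⟩
  rw [← hG]
  have huG : u ∈ G := by rw [hG]; exact Subgroup.subset_closure (by simp)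
  have hvG : s u ∈ G := by rw [hG]; exact Subgroup.subset_closure (by simp)
  have hss : s (s u) = s u * u⁻¹ * s u := by
    apply ext'
    have e1 : ((s (s u) : SpecialLinearGroup (Fin 4) F) : Matrix (Fin 4) (Fin 4) F) =
        Hm θ a φ * (Hm θ a φ * (u : Matrix (Fin 4) (Fin 4) F) * Hm θ⁻¹ a φ) * Hm θ⁻¹ a φ := by
      rw [hs]; rfl
    have e2 : ((s u * u⁻¹ * s u : SpecialLinearGroup (Fin 4) F) : Matrix (Fin 4) (Fin 4) F) =
        (Hm θ a φ * (u : Matrix (Fin 4) (Fin 4) F) * Hm θ⁻¹ a φ) *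
        ((u⁻¹ : SpecialLinearGroup (Fin 4) F) : Matrix (Fin 4) (Fin 4) F) *
        (Hm θ a φ * (u : Matrix (Fin 4) (Fin 4) F) * Hm θ⁻¹ a φ) := by
      rw [hs]; rfl
    rw [e1, e2]
    have k1 := conj_Hm u θ⁻¹ a φ
    have hb : φ ⬝ᵥ ((u : Matrix (Fin 4) (Fin 4) F) *ᵥ a) = 0 := by
      have := av_succ (u := u) a 0
      rw [ha0, zero_add] at this
      rw [this, f1]
    have hc : (φ ᵥ* ((u⁻¹ : SpecialLinearGroup (Fin 4) F) : Matrix (Fin 4) (Fin 4) F)) ⬝ᵥ a = 0 := by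
      rw [← dotProduct_mulVec]
      have : av u a (-1) = ((u⁻¹ : SpecialLinearGroup (Fin 4) F) : Matrix (Fin 4) (Fin 4) F) *ᵥ a := by
        rw [av, _root_.zpow_neg, zpow_one]
      rw [← this, fm1]
    have k2 := Hm_commute (r := θ) (s := θ⁻¹) hb hc
    rw [← k1] at k2
    have k3 := inv_mul_coe u
    calc Hm θ a φ * (Hm θ a φ * (u : Matrix (Fin 4) (Fin 4) F) * Hm θ⁻¹ a φ) * Hm θ⁻¹ a φ
        = Hm θ a φ * (Hm θ a φ * ((u : Matrix (Fin 4) (Fin 4) F) * Hm θ⁻¹ a φ *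
          (((u⁻¹ : SpecialLinearGroup (Fin 4) F) : Matrix (Fin 4) (Fin 4) F) *
            (u : Matrix (Fin 4) (Fin 4) F)))) * Hm θ⁻¹ a φ := by
          rw [k3, mul_one]; simp only [mul_assoc]
      _ = Hm θ a φ * ((Hm θ a φ * ((u : Matrix (Fin 4) (Fin 4) F) * Hm θ⁻¹ a φ *
          ((u⁻¹ : SpecialLinearGroup (Fin 4) F) : Matrix (Fin 4) (Fin 4) F))) *
            (u : Matrix (Fin 4) (Fin 4) F)) * Hm θ⁻¹ a φ := by
          simp only [mul_assoc]
      _ = _ := by rw [k2]; simp only [mul_assoc]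
  have hsG : ∀ g ∈ G, s g ∈ G := by
    have : G ≤ G.comap s := by
      conv_lhs => rw [hG]
      rw [Subgroup.closure_le]
      rintro y (rfl | hy)
      · exact hvG
      · rw [Set.mem_singleton_iff] at hy
        subst hy
        show s (s u) ∈ G
        rw [hss]
        exact G.mul_mem (G.mul_mem hvG (G.inv_mem huG)) hvG
    exact this
  have hθ1 : θ ≠ 1 := by
    intro h1
    obtain ⟨k, hk⟩ := hθ (-1) (neg_ne_zero.mpr one_ne_zero)
    rw [h1, one_pow] at hk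
    apply h2
    have : (2 : F) = 1 - -1 := by norm_num
    rw [this, ← hk, sub_self]
  rw [hs] at hsG
  have hR3 : RR G (av u a 3) φ = ⊤ := by
    have h3 := hom_gen hθ0 hφa hsG (G.zpow_mem huG 3) (by exact f3)
    rw [← _root_.zpow_neg] at h3
    change Has G (((θ - 1) * (θ⁻¹ - 1) * (φ ⬝ᵥ av u a (-3))) • av u a 3) φ at h3
    obtain ⟨c, hc⟩ : ∃ c, c = (θ - 1) * (θ⁻¹ - 1) * (φ ⬝ᵥ av u a (-3)) := ⟨_, rfl⟩
    rw [← hc] at h3
    have hc0 : c ≠ 0 := by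
      rw [hc, fm3]
      refine mul_ne_zero (mul_ne_zero (sub_ne_zero.mpr hθ1) (sub_ne_zero.mpr ?_)) (neg_ne_zero.mpr h16)
      intro h4
      exact hθ1 (inv_eq_one.mp h4)
    have h4 : ∀ k : ℕ, θ⁻¹ ^ k * c ∈ RR G (av u a 3) φ := by
      intro k
      induction k with
      | zero => rw [pow_zero, one_mul]; exact h3
      | succ k ih => rw [pow_succ', mul_assoc]; exact hom_smul hθ0 hφa hsG f3 ih
    rw [eq_top_iff]
    intro x _
    by_cases hx : x = 0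
    · rw [hx]; exact AddSubgroup.zero_mem _
    · obtain ⟨k, hk⟩ := hθ (x⁻¹ * c) (mul_ne_zero (inv_ne_zero hx) hc0)
      have h5 := h4 k
      rw [inv_pow, hk, mul_inv, inv_inv, mul_assoc, inv_mul_cancel₀ hc0, mul_one] at h5
      exact h5
  have hA3 : av u a 3 ∈ AA G φ := mem_AA_iff_RR.mpr hR3
  have hA1 : av u a 1 ∈ AA G φ := AA_rule' huG 3 1 (-2) hA3 (by norm_num; exact hA3) f1
    (by norm_num; rw [f5]; exact h16)
  have hAm1 : av u a (-1) ∈ AA G φ := AA_rule' huG 3 (-1) (-2) hA3 (by norm_num; exact hA1) fm1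
    (by norm_num; rw [f5]; exact h16)
  have hrec : av u a 3 = (4 : F) • av u a 2 - (6 : F) • av u a 1 + (4 : F) • av u a 0 - av u a (-1) := by
    have h0 : (Um F 4 - 1) ^ 4 = 0 := by
      ext i j
      rw [N_pow, if_neg (by have := j.2; omega)]
      rfl
    have h3 : Um F 4 ^ 4 = 4 • Um F 4 ^ 3 - 6 • Um F 4 ^ 2 + 4 • Um F 4 - 1 := by
      have h4 : (Um F 4 - 1) ^ 4 = Um F 4 ^ 4 - (4 • Um F 4 ^ 3 - 6 • Um F 4 ^ 2 + 4 • Um F 4 - 1) := by
        noncomm_ring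
      rw [h0] at h4
      exact (sub_eq_zero.mp h4.symm)
    obtain ⟨b, hb⟩ : ∃ b, b = av u a (-1) := ⟨_, rfl⟩
    have g3 : av u a 3 = av u b (4 : ℕ) := by rw [hb, av_av]; norm_num
    have g2 : av u a 2 = av u b (3 : ℕ) := by rw [hb, av_av]; norm_num
    have g1 : av u a 1 = av u b (2 : ℕ) := by rw [hb, av_av]; norm_num
    have g0 : av u a 0 = av u b (1 : ℕ) := by rw [hb, av_av]; norm_num
    rw [g3, g2, g1, g0, ← hb, av_natCast, av_natCast, av_natCast, av_natCast, hu, h3, sub_mulVec, add_mulVec,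
      sub_mulVec, one_mulVec, pow_one, smul_mulVec, smul_mulVec, smul_mulVec]
    ext i
    simp
  have hfull : Full G φ := by
    apply full_of_span (p := av u a 0) (by rw [f0]; exact one_ne_zero)
    obtain ⟨U, hU⟩ : ∃ U : Submodule F (Fin 4 → F), U = AA G φ ⊔ Submodule.span F {av u a 0} := ⟨_, rfl⟩
    have hAU : ∀ a, a ∈ AA G φ → a ∈ U := fun a ha => by rw [hU]; exact Submodule.mem_sup_left ha
    have h0U : av u a 0 ∈ U := by
      rw [hU]; exact Submodule.mem_sup_right (Submodule.mem_span_singleton_self _)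
    have h2U : av u a 2 ∈ U := by
      have e : av u a 2 = (4 : F)⁻¹ • (av u a 3 + (6 : F) • av u a 1 - (4 : F) • av u a 0 + av u a (-1)) := by
        rw [hrec]
        have h4 : (4 : F) ≠ 0 := by
          have : (4 : F) = 2 ^ 2 := by norm_num
          rw [this]; exact pow_ne_zero _ h2
        have e2 : (4 : F) • av u a 2 - (6 : F) • av u a 1 + (4 : F) • av u a 0 - av u a (-1) + (6 : F) • av u a 1 -
            (4 : F) • av u a 0 + av u a (-1) = (4 : F) • av u a 2 := by abel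
        rw [e2, smul_smul, inv_mul_cancel₀ h4, one_smul]
      rw [e]
      exact U.smul_mem _ (U.add_mem (U.sub_mem (U.add_mem (hAU _ hA3) (U.smul_mem _ (hAU _ hA1)))
        (U.smul_mem _ h0U)) (hAU _ hAm1))
    rw [← hU]
    apply span_top (by omega) hu _ 2
    intro i hi
    have e : av u (el F 4 (by omega)) (2 + i) = av u a (i - 1) := by
      rw [ha, av_av]
      congr 1
      ring
    rw [e]
    interval_cases i
    · norm_num; exact hAU _ hAm1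
    · norm_num; exact h0U
    · norm_num; exact hAU _ hA1
    · norm_num; exact h2U
  refine top_of_full (by omega) hu huG (φ := φ) ?_ hfull
  rw [hφ, hd]
  simpa using h2

end Cfsg.Agent.H42.CycGen
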