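import Mathlib
import Cfsg.Agent.H42.CycGen5

/-!
Two conjugate regular unipotent elements generating `SL_4(p)`, `p` odd.
-/

set_option autoImplicit false

namespace Cfsg.Agent.H42.CycGen

open Matrix Cfsg.Agent.H36.SLT Cfsg.Agent.H42.ThreeUnip

variable {F : Type*} [Field F]

theorem Um4 : Um F 4 = !![1, 1, 0, 0; 0, 1, 1, 0; 0, 0, 1, 1; 0, 0, 0, 1] := by
  ext i j
  fin_cases i <;> fin_cases j <;> simp [Um]

theorem dvec (a b c e : F) :
    (fun i : Fin 4 => (fun j : ℕ => if j = 0 then e else if j = 1 then c else if j = 2 then b else a)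
      (4 - 1 - i)) = ![a, b, c, e] := by
  ext i
  fin_cases i <;> simp

def X4 (F : Type*) [Field F] : Matrix (Fin 4) (Fin 4) F :=
  !![-1, 0, 0, 0; -6, 1, 0, 0; -6, 0, 1, 0; 0, -2, 2, -1]

theorem X4_sq : X4 F * X4 F = 1 := by
  ext i j
  fin_cases i <;> fin_cases j <;>
    simp [X4, Matrix.mul_apply, Fin.sum_univ_four] <;> ring

theorem X4_det : (X4 F).det = 1 := by
  simp [X4, Matrix.det_succ_row_zero, Fin.sum_univ_succ, Fin.succAbove]

def U4' (F : Type*) [Field F] : Matrix (Fin 4) (Fin 4) F :=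
  !![1, -1, 1, -1; 0, 1, -1, 1; 0, 0, 1, -1; 0, 0, 0, 1]

theorem Um4_mul : Um F 4 * U4' F = 1 := by
  rw [Um4]
  ext i j
  fin_cases i <;> fin_cases j <;>
    simp [U4', Matrix.mul_apply, Fin.sum_univ_four]

theorem XUXU : X4 F * (Um F 4 * X4 F * U4' F) =
    !![7, -8, 8, -8; 30, -35, 36, -36; 36, -44, 47, -48; 12, -16, 18, -19] := by
  rw [Um4]
  have e1 : (!![1, 1, 0, 0; 0, 1, 1, 0; 0, 0, 1, 1; 0, 0, 0, 1] : Matrix (Fin 4) (Fin 4) F) * X4 F =
      !![-7, 1, 0, 0; -12, 1, 1, 0; -6, -2, 3, -1; 0, -2, 2, -1] := by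
    ext i j
    fin_cases i <;> fin_cases j <;> simp [X4, Matrix.mul_apply, Fin.sum_univ_four] <;> ring
  rw [e1]
  have e2 : (!![-7, 1, 0, 0; -12, 1, 1, 0; -6, -2, 3, -1; 0, -2, 2, -1] : Matrix (Fin 4) (Fin 4) F) * U4' F =
      !![-7, 8, -8, 8; -12, 13, -12, 12; -6, 4, -1, 0; 0, -2, 4, -5] := by
    ext i j
    fin_cases i <;> fin_cases j <;> simp [U4', Matrix.mul_apply, Fin.sum_univ_four] <;> ring
  rw [e2]
  ext i j
  fin_cases i <;> fin_cases j <;> simp [X4, Matrix.mul_apply, Fin.sum_univ_four] <;> ring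

theorem XUXU_sq : X4 F * (Um F 4 * X4 F * U4' F) * (X4 F * (Um F 4 * X4 F * U4' F)) =
    1 + vecMulVec ((-24 : F) • ![0, 1, 2, 1]) ![-1, 1, -1, 1] := by
  rw [XUXU]
  ext i j
  fin_cases i <;> fin_cases j <;>
    simp [Matrix.mul_apply, Fin.sum_univ_four, vecMulVec_apply] <;> ring

theorem four_prime [Finite F] (hp : (Nat.card F).Prime) (h2 : (2 : F) ≠ 0) (h3 : (3 : F) ≠ 0) : Pair F 4 := by
  have hn0 : 0 < 4 := by norm_num
  obtain ⟨u, hu⟩ : ∃ u : Matrix.SpecialLinearGroup (Fin 4) F, (u : Matrix (Fin 4) (Fin 4) F) = Um F 4 :=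
    ⟨⟨Um F 4, Um_det⟩, rfl⟩
  obtain ⟨x, hx⟩ : ∃ x : Matrix.SpecialLinearGroup (Fin 4) F, (x : Matrix (Fin 4) (Fin 4) F) = X4 F :=
    ⟨⟨X4 F, X4_det⟩, rfl⟩
  have hx2 : x * x = 1 := by
    apply ext'
    have : ((x * x : SpecialLinearGroup (Fin 4) F) : Matrix (Fin 4) (Fin 4) F) =
      (x : Matrix (Fin 4) (Fin 4) F) * (x : Matrix (Fin 4) (Fin 4) F) := rfl
    rw [this, hx, X4_sq]; rfl
  have hu' : ((u⁻¹ : SpecialLinearGroup (Fin 4) F) : Matrix (Fin 4) (Fin 4) F) = U4' F := by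
    have h1 := inv_mul_coe u
    rw [hu] at h1
    calc ((u⁻¹ : SpecialLinearGroup (Fin 4) F) : Matrix (Fin 4) (Fin 4) F)
        = ((u⁻¹ : SpecialLinearGroup (Fin 4) F) : Matrix (Fin 4) (Fin 4) F) * (Um F 4 * U4' F) := by
          rw [Um4_mul, mul_one]
      _ = U4' F := by rw [← mul_assoc, h1, one_mul]
  have hx' : x⁻¹ = x := inv_eq_of_mul_eq_one_left hx2
  refine ⟨u, x, reg hn0 hu, ?_⟩
  apply conj_trick (Cfsg.Agent.ClassBase.sl_fin_commutator_eq_top 4 (by omega)) _ _ _ (Or.inl hx2)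
  obtain ⟨G, hG⟩ : ∃ G, G = Subgroup.closure ({u, x} : Set (SpecialLinearGroup (Fin 4) F)) := ⟨_, rfl⟩
  rw [← hG]
  have huG : u ∈ G := by rw [hG]; exact Subgroup.subset_closure (by simp)
  have hxG : x ∈ G := by rw [hG]; exact Subgroup.subset_closure (by simp)
  obtain ⟨d, hd⟩ : ∃ d : ℕ → F, d = fun j => if j = 0 then 1 else if j = 1 then -1 else
    if j = 2 then 1 else -1 := ⟨_, rfl⟩
  obtain ⟨φ, hφ⟩ : ∃ φ : Fin 4 → F, φ = fun i : Fin 4 => d (4 - 1 - i) := ⟨_, rfl⟩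
  have hφ' : φ = ![-1, 1, -1, 1] := by rw [hφ, hd]; exact dvec _ _ _ _
  obtain ⟨w, hw⟩ : ∃ w, w = av u (el F 4 hn0) 0 := ⟨_, rfl⟩
  have f1 : φ ⬝ᵥ av u w 1 = 0 := by
    rw [hφ, hw, fdot hn0 hu d 0 1 1 (by norm_num)]
    simp [Finset.sum_range_succ, hd, Nat.choose]
  have f2 : φ ⬝ᵥ av u w 2 = 0 := by
    rw [hφ, hw, fdot hn0 hu d 0 2 2 (by norm_num)]
    simp [Finset.sum_range_succ, hd, Nat.choose]
    ring
  have f3 : φ ⬝ᵥ av u w 3 = 0 := by
    rw [hφ, hw, fdot hn0 hu d 0 3 3 (by norm_num)]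
    simp [Finset.sum_range_succ, hd, Nat.choose]
  have f4 : φ ⬝ᵥ av u w 4 = -1 := by
    rw [hφ, hw, fdot hn0 hu d 0 4 4 (by norm_num)]
    simp [Finset.sum_range_succ, hd, Nat.choose]
    ring
  have f0 : φ ⬝ᵥ av u w 0 = 1 := by
    rw [hφ, hw, fdot hn0 hu d 0 0 0 (by norm_num)]
    simp [Finset.sum_range_succ, hd, Nat.choose]
  have w0 : av u w 0 = ![0, 0, 0, 1] := by
    rw [av_zero, hw, av_zero, el]
    ext i; fin_cases i <;> simp
  have w1 : av u w 1 = ![0, 0, 1, 1] := by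
    have := av_succ (u := u) w 0
    rw [zero_add] at this
    rw [← this, w0, hu, Um4]
    ext i; fin_cases i <;> simp [mulVec, dotProduct, Fin.sum_univ_four]
  have w2 : av u w 2 = ![0, 1, 2, 1] := by
    have := av_succ (u := u) w 1
    norm_num at this
    rw [← this, w1, hu, Um4]
    ext i; fin_cases i <;> simp [mulVec, dotProduct, Fin.sum_univ_four]
    norm_num
  have w3 : av u w 3 = ![1, 3, 3, 1] := by
    have := av_succ (u := u) w 2
    norm_num at this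
    rw [← this, w2, hu, Um4]
    ext i; fin_cases i <;> simp [mulVec, dotProduct, Fin.sum_univ_four] <;> norm_num
  -- R_2
  have hR2 : RR G (av u w 2) φ = ⊤ := by
    apply S_prime hp _ (-24)
    · have : (-24 : F) = -(2 ^ 3 * 3) := by norm_num
      rw [this]
      exact neg_ne_zero.mpr (mul_ne_zero (pow_ne_zero _ h2) h3)
    · rw [mem_RR]
      have h0 : φ ⬝ᵥ ((-24 : F) • av u w 2) = 0 := by rw [smul_dot, f2, mul_zero]
      refine ⟨h0, ?_⟩
      have e : (x * (u * x * u⁻¹)) * (x * (u * x * u⁻¹)) = T _ φ h0 := by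
        apply ext'
        rw [coe_T, w2, hφ', ← XUXU_sq, ← hu, ← hu', ← hx]
        rfl
      rw [← e]
      have h1 : x * (u * x * u⁻¹) ∈ G := G.mul_mem hxG (G.mul_mem (G.mul_mem huG hxG) (G.inv_mem huG))
      exact G.mul_mem h1 h1
  have hA2 : av u w 2 ∈ AA G φ := mem_AA_iff_RR.mpr hR2
  have hR3 : RR G (av u w 3) φ = ⊤ := by
    apply S_prime hp _ 8
    · have : (8 : F) = 2 ^ 3 := by norm_num
      rw [this]
      exact pow_ne_zero _ h2
    · rw [mem_RR]
      have h1 := hA2 1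
      rw [one_smul] at h1
      have h4 := h1.conj huG
      have e1 : (u : Matrix (Fin 4) (Fin 4) F) *ᵥ av u w 2 = av u w 3 := by
        have := av_succ (u := u) w 2
        norm_num at this
        exact this
      have e2 : φ ᵥ* ((u⁻¹ : SpecialLinearGroup (Fin 4) F) : Matrix (Fin 4) (Fin 4) F) = ![-1, 2, -3, 4] := by
        rw [hu', hφ']
        ext i; fin_cases i <;> simp [U4', vecMul, dotProduct, Fin.sum_univ_four] <;> norm_num
      rw [e1, e2] at h4
      have h5 := h4.conj hxG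
      have e3 : (x : Matrix (Fin 4) (Fin 4) F) *ᵥ av u w 3 = -av u w 3 := by
        rw [w3, hx]
        ext i; fin_cases i <;> simp [X4, mulVec, dotProduct, Fin.sum_univ_four] <;> norm_num
      have e4 : ![-1, 2, -3, 4] ᵥ* ((x⁻¹ : SpecialLinearGroup (Fin 4) F) : Matrix (Fin 4) (Fin 4) F) =
          ![-1, 2, -3, 4] + (-8 : F) • φ := by
        rw [hx', hx, hφ']
        ext i; fin_cases i <;> simp [X4, vecMul, dotProduct, Fin.sum_univ_four] <;> norm_num
      rw [e3, e4] at h5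
      have h6 := (h5.neg_left.congr (neg_neg _) rfl).neg_right.add_right h4
      have h7 := (h6.congr rfl (by
        rw [neg_add, neg_smul, neg_neg]
        abel : _ = (8 : F) • φ)).smul_left
      exact h7
  have hA3 : av u w 3 ∈ AA G φ := mem_AA_iff_RR.mpr hR3
  have hA1 : av u w 1 ∈ AA G φ := AA_rule' huG 2 1 (-2) hA2 (by norm_num; exact hA3) f1
    (by norm_num; rw [f4]; exact neg_ne_zero.mpr one_ne_zero)
  have hfull : Full G φ := by
    apply full_of_span (p := av u w 0) (by rw [f0]; exact one_ne_zero)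
    apply span_top (by omega) hu _ 0
    intro i hi
    have e : av u (el F 4 (by omega)) (0 + i) = av u w i := by
      rw [hw, av_av, add_comm]
    rw [e]
    interval_cases i
    · norm_num; exact Submodule.mem_sup_right (Submodule.mem_span_singleton_self _)
    · norm_num; exact Submodule.mem_sup_left hA1
    · norm_num; exact Submodule.mem_sup_left hA2
    · norm_num; exact Submodule.mem_sup_left hA3
  refine top_of_full (by omega) hu huG (φ := φ) ?_ hfull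
  rw [hφ']
  simp

/-! characteristic three -/

def W4 (F : Type*) [Field F] : Matrix (Fin 4) (Fin 4) F :=
  !![0, 0, 0, 1; 0, 0, 1, 0; 0, 1, 0, 0; 1, 0, 0, 0]

theorem W4_sq : W4 F * W4 F = 1 := by
  ext i j
  fin_cases i <;> fin_cases j <;>
    simp [W4, Matrix.mul_apply, Fin.sum_univ_four]

theorem W4_det : (W4 F).det = 1 := by
  simp [W4, Matrix.det_succ_row_zero, Fin.sum_univ_succ, Fin.succAbove]
  norm_num

theorem four_three [Finite F] (hp : Nat.card F = 3) : Pair F 4 := by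
  have hn0 : 0 < 4 := by norm_num
  have hpr : (Nat.card F).Prime := by rw [hp]; exact Nat.prime_three
  have h3 : (3 : F) = 0 := by
    have := cast_eq_zero_of_dvd_card (F := F) Nat.prime_three (by rw [hp])
    exact_mod_cast this
  obtain ⟨u, hu⟩ : ∃ u : Matrix.SpecialLinearGroup (Fin 4) F, (u : Matrix (Fin 4) (Fin 4) F) = Um F 4 :=
    ⟨⟨Um F 4, Um_det⟩, rfl⟩
  obtain ⟨x, hx⟩ : ∃ x : Matrix.SpecialLinearGroup (Fin 4) F, (x : Matrix (Fin 4) (Fin 4) F) = W4 F :=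
    ⟨⟨W4 F, W4_det⟩, rfl⟩
  have hx2 : x * x = 1 := by
    apply ext'
    have : ((x * x : SpecialLinearGroup (Fin 4) F) : Matrix (Fin 4) (Fin 4) F) =
      (x : Matrix (Fin 4) (Fin 4) F) * (x : Matrix (Fin 4) (Fin 4) F) := rfl
    rw [this, hx, W4_sq]; rfl
  have hx' : x⁻¹ = x := inv_eq_of_mul_eq_one_left hx2
  refine ⟨u, x, reg hn0 hu, ?_⟩
  apply conj_trick (Cfsg.Agent.ClassBase.sl_fin_commutator_eq_top 4 (by omega)) _ _ _ (Or.inl hx2)
  obtain ⟨G, hG⟩ : ∃ G, G = Subgroup.closure ({u, x} : Set (SpecialLinearGroup (Fin 4) F)) := ⟨_, rfl⟩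
  rw [← hG]
  have huG : u ∈ G := by rw [hG]; exact Subgroup.subset_closure (by simp)
  have hxG : x ∈ G := by rw [hG]; exact Subgroup.subset_closure (by simp)
  obtain ⟨a, ha⟩ : ∃ a : Fin 4 → F, a = ![1, 0, 0, 0] := ⟨_, rfl⟩
  obtain ⟨φ, hφ⟩ : ∃ φ : Fin 4 → F, φ = ![0, 0, 0, 1] := ⟨_, rfl⟩
  have hφa : φ ⬝ᵥ a = 0 := by rw [hφ, ha]; simp [dotProduct, Fin.sum_univ_four]
  have ht : Has G a φ := by
    refine ⟨hφa, ?_⟩
    have e : u * u * u = T a φ hφa := by
      apply ext'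
      have e1 : ((u * u * u : SpecialLinearGroup (Fin 4) F) : Matrix (Fin 4) (Fin 4) F) =
        (u : Matrix (Fin 4) (Fin 4) F) * (u : Matrix (Fin 4) (Fin 4) F) *
          (u : Matrix (Fin 4) (Fin 4) F) := rfl
      rw [e1, coe_T, hu, Um4, ha, hφ]
      have e2 : (!![1, 1, 0, 0; 0, 1, 1, 0; 0, 0, 1, 1; 0, 0, 0, 1] : Matrix (Fin 4) (Fin 4) F) *
          !![1, 1, 0, 0; 0, 1, 1, 0; 0, 0, 1, 1; 0, 0, 0, 1] =
          !![1, 2, 1, 0; 0, 1, 2, 1; 0, 0, 1, 2; 0, 0, 0, 1] := by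
        ext i j
        fin_cases i <;> fin_cases j <;> simp [Matrix.mul_apply, Fin.sum_univ_four] <;> norm_num
      have e12 : (1 : F) + 2 = 0 := by rw [← h3]; norm_num
      have e21 : (2 : F) + 1 = 0 := by rw [← h3]; norm_num
      rw [e2]
      ext i j
      fin_cases i <;> fin_cases j <;>
        simp [Matrix.mul_apply, Fin.sum_univ_four, vecMulVec_apply, e12, e21]
    rw [← e]
    exact G.mul_mem (G.mul_mem huG huG) huG
  -- the lower triangular element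
  obtain ⟨v, hv⟩ : ∃ v, v = x * u * x := ⟨_, rfl⟩
  have hvG : v ∈ G := by rw [hv]; exact G.mul_mem (G.mul_mem hxG huG) hxG
  have hvm : (v : Matrix (Fin 4) (Fin 4) F) = !![1, 0, 0, 0; 1, 1, 0, 0; 0, 1, 1, 0; 0, 0, 1, 1] := by
    have e1 : (v : Matrix (Fin 4) (Fin 4) F) = (x : Matrix (Fin 4) (Fin 4) F) *
        (u : Matrix (Fin 4) (Fin 4) F) * (x : Matrix (Fin 4) (Fin 4) F) := by rw [hv]; rfl
    rw [e1, hx, hu, Um4]
    ext i j
    fin_cases i <;> fin_cases j <;> simp [W4, Matrix.mul_apply, Fin.sum_univ_four]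
  have e1m : (1 : F) + 1 = -1 := by
    have : (1 : F) + 1 = 3 - 1 := by norm_num
    rw [this, h3, zero_sub]
  have hv1 : (v : Matrix (Fin 4) (Fin 4) F) *ᵥ a = ![1, 1, 0, 0] := by
    rw [hvm, ha]
    ext i; fin_cases i <;> simp [mulVec, dotProduct, Fin.sum_univ_four]
  have hv2 : (v : Matrix (Fin 4) (Fin 4) F) *ᵥ ![1, 1, 0, 0] = ![1, -1, 1, 0] := by
    rw [hvm]
    ext i; fin_cases i <;> simp [mulVec, dotProduct, Fin.sum_univ_four, e1m]
  have hvi : ((v⁻¹ : SpecialLinearGroup (Fin 4) F) : Matrix (Fin 4) (Fin 4) F) =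
      !![1, 0, 0, 0; -1, 1, 0, 0; 1, -1, 1, 0; -1, 1, -1, 1] := by
    have h1 := inv_mul_coe v
    have h2 : (v : Matrix (Fin 4) (Fin 4) F) * !![1, 0, 0, 0; -1, 1, 0, 0; 1, -1, 1, 0; -1, 1, -1, 1] = 1 := by
      rw [hvm]
      ext i j
      fin_cases i <;> fin_cases j <;> simp [Matrix.mul_apply, Fin.sum_univ_four]
    calc _ = ((v⁻¹ : SpecialLinearGroup (Fin 4) F) : Matrix (Fin 4) (Fin 4) F) *
          ((v : Matrix (Fin 4) (Fin 4) F) * !![1, 0, 0, 0; -1, 1, 0, 0; 1, -1, 1, 0; -1, 1, -1, 1]) := by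
          rw [h2, mul_one]
      _ = _ := by rw [← mul_assoc, h1, one_mul]
  have hφv : φ ᵥ* ((v⁻¹ : SpecialLinearGroup (Fin 4) F) : Matrix (Fin 4) (Fin 4) F) = ![-1, 1, -1, 1] := by
    rw [hvi, hφ]
    ext i; fin_cases i <;> simp [vecMul, dotProduct, Fin.sum_univ_four]
  have hφv2 : ![-1, 1, -1, 1] ᵥ* ((v⁻¹ : SpecialLinearGroup (Fin 4) F) : Matrix (Fin 4) (Fin 4) F) =
      ![-1, 0, 1, 1] := by
    rw [hvi]
    ext i; fin_cases i <;> simp [vecMul, dotProduct, Fin.sum_univ_four, e1m] <;>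
      linear_combination (-1 : F) * h3
  have hb : Has G (![1, 1, 0, 0] : Fin 4 → F) φ := by
    have h1 := ht.conj hvG
    rw [hv1, hφv] at h1
    have h2 := ht.comm h1 (by rw [hφ]; simp [dotProduct, Fin.sum_univ_four])
    have e : (![-1, 1, -1, 1] : Fin 4 → F) ⬝ᵥ a = -1 := by
      rw [ha]; simp [dotProduct, Fin.sum_univ_four]
    rw [e] at h2
    exact h2.neg_left.congr (by rw [neg_smul, one_smul, neg_neg]) rfl
  have hc : Has G (![1, -1, 1, 0] : Fin 4 → F) φ := by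
    have h1 := (ht.conj hvG).conj hvG
    rw [hv1, hφv, hv2, hφv2] at h1
    have h2 := ht.comm h1 (by rw [hφ]; simp [dotProduct, Fin.sum_univ_four])
    have e : (![-1, 0, 1, 1] : Fin 4 → F) ⬝ᵥ a = -1 := by
      rw [ha]; simp [dotProduct, Fin.sum_univ_four]
    rw [e] at h2
    exact h2.neg_left.congr (by rw [neg_smul, one_smul, neg_neg]) rfl
  have mkA : ∀ b : Fin 4 → F, Has G b φ → b ∈ AA G φ := by
    intro b hb
    rw [mem_AA_iff_RR]
    exact S_prime hpr _ 1 one_ne_zero (by rw [mem_RR, one_smul]; exact hb)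
  have hfull : Full G φ := by
    apply full_of_ker
    intro y hy
    have hy3 : y 3 = 0 := by
      rw [hφ] at hy
      simpa [dotProduct, Fin.sum_univ_four] using hy
    have e : y = (y 0 - y 1 - y 2 - y 2) • a + (y 1 + y 2) • ![1, 1, 0, 0] + y 2 • ![1, -1, 1, 0] := by
      rw [ha]
      ext i
      fin_cases i
      · simp
        ring
      · simp
      · simp
      · simp [hy3]
    rw [e]
    exact (AA G φ).add_mem ((AA G φ).add_mem ((AA G φ).smul_mem _ (mkA _ ht)) ((AA G φ).smul_mem _ (mkA _ hb)))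
      ((AA G φ).smul_mem _ (mkA _ hc))
  have hfull2 : Full G (φ ᵥ* (x : Matrix (Fin 4) (Fin 4) F)) := hfull.conj hxG
  refine top_of_full (by omega) hu huG ?_ hfull2
  rw [hφ, hx]
  simp [W4, vecMul, dotProduct, Fin.sum_univ_four]

theorem four_prime_odd [Finite F] (hp : (Nat.card F).Prime) (h2 : (2 : F) ≠ 0) : Pair F 4 := by
  by_cases h3 : (3 : F) = 0
  · apply four_three
    have := prime_dvd_card (F := F) Nat.prime_three (by exact_mod_cast h3)
    exact ((Nat.prime_dvd_prime_iff_eq Nat.prime_three hp).mp this).symm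
  · exact four_prime hp h2 h3

end Cfsg.Agent.H42.CycGen
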