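import Mathlib
import Cfsg.Agent.H42.CycGen6
import Cfsg.Agent.S0801

/-!
Subfields, and a consequence of Dickson's theorem for two transvections.
-/

set_option autoImplicit false

namespace Cfsg.Agent.H42.CycGen

open Matrix Cfsg.Agent.H36.SLT Cfsg.Agent.H42.ThreeUnip

variable {F : Type*} [Field F]

/-- the stabilizer of an additive subgroup is a subfield -/
def stab [Finite F] (S : AddSubgroup F) : Subfield F where
  carrier := {x | ∀ s ∈ S, x * s ∈ S}
  mul_mem' := by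
    intro a b ha hb s hs
    rw [mul_assoc]
    exact ha _ (hb _ hs)
  one_mem' := by
    intro s hs
    rw [one_mul]; exact hs
  add_mem' := by
    intro a b ha hb s hs
    rw [add_mul]
    exact S.add_mem (ha s hs) (hb s hs)
  zero_mem' := by
    intro s _
    rw [zero_mul]; exact S.zero_mem
  neg_mem' := by
    intro a ha s hs
    rw [neg_mul]
    exact S.neg_mem (ha s hs)
  inv_mem' := by
    intro x hx
    haveI := Fintype.ofFinite F
    have hpow : ∀ k : ℕ, ∀ s ∈ S, x ^ k * s ∈ S := by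
      intro k
      induction k with
      | zero => intro s hs; rw [pow_zero, one_mul]; exact hs
      | succ k ih => intro s hs; rw [pow_succ', mul_assoc]; exact hx _ (ih s hs)
    intro s hs
    by_cases h0 : x = 0
    · rw [h0, _root_.inv_zero, zero_mul]; exact S.zero_mem
    · have h1 : x⁻¹ = x ^ (Fintype.card F - 2) := by
        have h2 := FiniteField.pow_card_sub_one_eq_one x h0
        have h3 : 1 < Fintype.card F := Fintype.one_lt_card
        have h4 : Fintype.card F - 1 = Fintype.card F - 2 + 1 := by omega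
        rw [h4, pow_succ] at h2
        exact (eq_inv_of_mul_eq_one_left h2).symm
      rw [h1]
      exact hpow _ s hs

theorem S_closure [Finite F] {κ : F} (h : Subfield.closure ({κ} : Set F) = ⊤) (S : AddSubgroup F)
    (h1 : (1 : F) ∈ S) (hm : ∀ x ∈ S, κ * x ∈ S) : S = ⊤ := by
  have h2 : Subfield.closure ({κ} : Set F) ≤ stab S := by
    rw [Subfield.closure_le]
    rintro y (rfl : y = κ)
    exact hm
  rw [h] at h2
  rw [eq_top_iff]
  intro x _
  have h3 : x ∈ stab S := h2 (Subfield.mem_top x)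
  have h4 := h3 1 h1
  rwa [mul_one] at h4

theorem subfield_sq [Finite F] (K : Subfield F) (hK : K ≠ ⊤) : Nat.card K ^ 2 ≤ Nat.card F := by
  have h1 : Nat.card F = Nat.card K ^ Module.finrank K F := Module.natCard_eq_pow_finrank
  have h2 : 0 < Module.finrank K F := Module.finrank_pos
  have h3 : Module.finrank K F ≠ 1 := by
    intro h3
    rw [h3, pow_one] at h1
    apply hK
    rw [eq_top_iff]
    intro x _
    have h4 : (K : Set F) = Set.univ := by
      apply Set.eq_of_subset_of_ncard_le (Set.subset_univ _) _ (Set.toFinite _)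
      rw [Set.ncard_univ, h1]
      exact le_rfl
    have : x ∈ (K : Set F) := by rw [h4]; trivial
    exact this
  rw [h1]
  exact Nat.pow_le_pow_right Nat.card_pos (by omega)

theorem closure_cube [Finite F] {θ : F} (hθ0 : θ ≠ 0) (hθ : ∀ x : F, x ≠ 0 → ∃ k : ℕ, θ ^ k = x)
    (h4 : Nat.card F ≠ 4) : Subfield.closure ({θ ^ 3} : Set F) = ⊤ := by
  haveI := Fintype.ofFinite F
  by_contra hK
  obtain ⟨K, hKd⟩ : ∃ K, K = Subfield.closure ({θ ^ 3} : Set F) := ⟨_, rfl⟩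
  rw [← hKd] at hK
  have h1 := subfield_sq K hK
  have hm : θ ^ 3 ∈ K := by rw [hKd]; exact Subfield.subset_closure rfl
  haveI := Fintype.ofFinite K
  have h2 : (θ ^ 3) ^ (Nat.card K - 1) = 1 := by
    have h3 := FiniteField.pow_card_sub_one_eq_one (⟨θ ^ 3, hm⟩ : K) (by
      intro h; exact pow_ne_zero 3 hθ0 (congrArg Subtype.val h))
    rw [Nat.card_eq_fintype_card]
    exact congrArg Subtype.val h3
  have h5 : orderOf θ = Nat.card F - 1 := by
    have h6 : orderOf (Units.mk0 θ hθ0) = Nat.card Fˣ := by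
      apply orderOf_eq_card_of_forall_mem_zpowers
      intro y
      obtain ⟨k, hk⟩ := hθ (y : F) y.ne_zero
      refine ⟨(k : ℤ), Units.ext ?_⟩
      have e : (fun x : ℤ => Units.mk0 θ hθ0 ^ x) (k : ℤ) = Units.mk0 θ hθ0 ^ k := zpow_natCast _ k
      rw [e, Units.val_pow_eq_pow_val]; exact hk
    rw [← orderOf_units, Units.val_mk0, Nat.card_units] at h6
    exact h6
  have h7 : Nat.card F - 1 ∣ 3 * (Nat.card K - 1) := by
    rw [← h5]
    apply orderOf_dvd_of_pow_eq_one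
    rw [pow_mul, h2]
  have h8 : 2 ≤ Nat.card K := Finite.one_lt_card
  have h9 := Nat.le_of_dvd (by omega) h7
  have h12 : 2 ≤ Nat.card F := Finite.one_lt_card
  have h10 : Nat.card K ≤ 2 := by
    obtain ⟨a, ha⟩ : ∃ a, Nat.card K = a + 1 := ⟨Nat.card K - 1, by omega⟩
    rw [ha] at h1 h9 h8 ⊢
    rw [Nat.add_sub_cancel] at h9
    have h13 : (a + 1) ^ 2 ≤ 3 * a + 1 := by omega
    nlinarith
  have h11 : Nat.card K = 2 := by omega
  rw [h11] at h1 h9 h7
  have h14 : Nat.card F - 1 = 3 := by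
    have h15 : Nat.card F - 1 ∣ 3 := by simpa using h7
    rcases (Nat.dvd_prime Nat.prime_three).mp h15 with h16 | h16
    · omega
    · exact h16
  omega

/-- the embedding of `SL_2` given by a plane and a dual plane -/
def emb {n : ℕ} (B : Matrix (Fin n) (Fin 2) F) (C : Matrix (Fin 2) (Fin n) F) (h : C * B = 1) :
    SpecialLinearGroup (Fin 2) F →* SpecialLinearGroup (Fin n) F where
  toFun M := ⟨1 + B * ((M : Matrix (Fin 2) (Fin 2) F) - 1) * C, by
    rw [det_one_add_mul_comm, ← Matrix.mul_assoc, h, Matrix.one_mul, add_sub_cancel, M.2]⟩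
  map_one' := by
    apply Subtype.ext
    show 1 + B * ((1 : Matrix (Fin 2) (Fin 2) F) - 1) * C = 1
    rw [sub_self, Matrix.mul_zero, Matrix.zero_mul, add_zero]
  map_mul' := by
    intro M N
    apply Subtype.ext
    show 1 + B * ((M : Matrix (Fin 2) (Fin 2) F) * (N : Matrix (Fin 2) (Fin 2) F) - 1) * C =
      (1 + B * ((M : Matrix (Fin 2) (Fin 2) F) - 1) * C) *
        (1 + B * ((N : Matrix (Fin 2) (Fin 2) F) - 1) * C)
    have e : (B * ((M : Matrix (Fin 2) (Fin 2) F) - 1) * C) * (B * ((N : Matrix (Fin 2) (Fin 2) F) - 1) * C) =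
        B * (((M : Matrix (Fin 2) (Fin 2) F) - 1) * ((N : Matrix (Fin 2) (Fin 2) F) - 1)) * C := by
      calc _ = B * ((M : Matrix (Fin 2) (Fin 2) F) - 1) * (C * B) * ((N : Matrix (Fin 2) (Fin 2) F) - 1) * C := by
            simp only [Matrix.mul_assoc]
        _ = _ := by rw [h]; simp only [Matrix.mul_assoc, Matrix.one_mul]
    rw [add_mul, one_mul, mul_add, mul_one, e, add_assoc, ← Matrix.add_mul, ← Matrix.add_mul,
      ← Matrix.mul_add, ← Matrix.mul_add]
    congr 4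
    noncomm_ring

theorem emb_T {n : ℕ} (B : Matrix (Fin n) (Fin 2) F) (C : Matrix (Fin 2) (Fin n) F) (h : C * B = 1)
    (c r : Fin 2 → F) (h0 : r ⬝ᵥ c = 0) (h0' : (r ᵥ* C) ⬝ᵥ (B *ᵥ c) = 0) :
    emb B C h (T c r h0) = T (B *ᵥ c) (r ᵥ* C) h0' := by
  apply ext'
  rw [coe_T]
  show 1 + B * (((T c r h0 : SpecialLinearGroup (Fin 2) F) : Matrix (Fin 2) (Fin 2) F) - 1) * C = _
  rw [coe_T, add_sub_cancel_left, mul_vecMulVec, vecMulVec_mul]

theorem dick_plane [Fintype F] (h2 : (2 : F) ≠ 0) {n : ℕ} {G : Subgroup (SpecialLinearGroup (Fin n) F)}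
    {a b φ ψ : Fin n → F} (ha : Has G a φ) (hb : Has G b ψ) (hμ : φ ⬝ᵥ b ≠ 0) (hν : ψ ⬝ᵥ a ≠ 0)
    (hgen : Subfield.closure ({(φ ⬝ᵥ b) * (ψ ⬝ᵥ a)} : Set F) = ⊤)
    (h9 : ¬ (Fintype.card F = 9 ∧ ((φ ⬝ᵥ b) * (ψ ⬝ᵥ a)) ^ 2 = -1)) (p q r s : F)
    (h0 : (r • ψ + s • φ) ⬝ᵥ (p • a + q • b) = 0) : Has G (p • a + q • b) (r • ψ + s • φ) := by
  obtain ⟨μ, hμd⟩ : ∃ μ, μ = φ ⬝ᵥ b := ⟨_, rfl⟩
  obtain ⟨ν, hνd⟩ : ∃ ν, ν = ψ ⬝ᵥ a := ⟨_, rfl⟩
  rw [← hμd, ← hνd] at hgen h9
  rw [← hμd] at hμ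
  rw [← hνd] at hν
  have hφa : φ ⬝ᵥ a = 0 := ha.1
  have hψb : ψ ⬝ᵥ b = 0 := hb.1
  obtain ⟨B, hB⟩ : ∃ B : Matrix (Fin n) (Fin 2) F, B = fun i => ![a i, ν * b i] := ⟨_, rfl⟩
  obtain ⟨C, hC⟩ : ∃ C : Matrix (Fin 2) (Fin n) F, C = ![ν⁻¹ • ψ, (ν * μ)⁻¹ • φ] := ⟨_, rfl⟩
  have hBc : ∀ c : Fin 2 → F, B *ᵥ c = c 0 • a + (ν * c 1) • b := by
    intro c
    ext i
    rw [hB]
    simp [mulVec, dotProduct, Fin.sum_univ_two]
    ring
  have hrC : ∀ c : Fin 2 → F, c ᵥ* C = (c 0 * ν⁻¹) • ψ + (c 1 * (ν * μ)⁻¹) • φ := by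
    intro c
    ext i
    rw [hC]
    simp [vecMul, dotProduct, Fin.sum_univ_two]
    ring
  have hCB : C * B = 1 := by
    have key : ∀ i j : Fin 2, (C * B) i j = (C i) ⬝ᵥ (fun k => B k j) := fun i j => rfl
    have c0 : (fun k => B k 0) = a := by rw [hB]; rfl
    have c1 : (fun k => B k 1) = ν • b := by rw [hB]; rfl
    have r0 : C 0 = ν⁻¹ • ψ := by rw [hC]; rfl
    have r1 : C 1 = (ν * μ)⁻¹ • φ := by rw [hC]; rfl
    ext i j
    rw [key]
    fin_cases i <;> fin_cases j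
    · show C 0 ⬝ᵥ (fun k => B k 0) = 1
      rw [c0, r0, smul_dotProduct, ← hνd, smul_eq_mul, inv_mul_cancel₀ hν]
    · show C 0 ⬝ᵥ (fun k => B k 1) = 0
      rw [c1, r0, smul_dotProduct, smul_dot, hψb, mul_zero, smul_zero]
    · show C 1 ⬝ᵥ (fun k => B k 0) = 0
      rw [c0, r1, smul_dotProduct, hφa, smul_zero]
    · show C 1 ⬝ᵥ (fun k => B k 1) = 1
      rw [c1, r1, smul_dotProduct, smul_dot, ← hμd, smul_eq_mul, inv_mul_cancel₀ (mul_ne_zero hν hμ)]
  have hlam : μ * ν ≠ 0 := mul_ne_zero hμ hν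
  have hD := Cfsg.Agent.S0801.result h2 (μ * ν) hlam hgen
  have hD1 := (hD.resolve_right (fun h => h9 ⟨h.1, h.2.1⟩)).1
  have htop : G.comap (emb B C hCB) = ⊤ := by
    rw [eq_top_iff, ← hD1, Subgroup.closure_le]
    rintro g (hg | hg)
    · show emb B C hCB g ∈ G
      have e0 : (![1, 0] : Fin 2 → F) ⬝ᵥ ![0, 1] = 0 := by simp
      have e : g = T ![0, 1] ![1, 0] e0 := by
        apply ext'
        rw [hg, coe_T]
        ext i j; fin_cases i <;> fin_cases j <;> simp [vecMulVec_apply]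
      have hv : B *ᵥ ![0, 1] = ν • b := by rw [hBc]; simp
      have hr : ![1, 0] ᵥ* C = ν⁻¹ • ψ := by rw [hrC]; simp
      have h1 : Has G (ν • b) (ν⁻¹ • ψ) := by
        apply Has.smul_left
        rw [smul_smul, mul_inv_cancel₀ hν, one_smul]
        exact hb
      obtain ⟨h3, h4⟩ := h1
      rw [e, emb_T B C hCB _ _ e0 (by rw [hv, hr]; exact h3), T_congr hv hr]
      exact h4
    · show emb B C hCB g ∈ G
      have e0 : (![0, 1] : Fin 2 → F) ⬝ᵥ ![μ * ν, 0] = 0 := by simp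
      have e : g = T ![μ * ν, 0] ![0, 1] e0 := by
        apply ext'
        rw [hg, coe_T]
        ext i j; fin_cases i <;> fin_cases j <;> simp [vecMulVec_apply]
      have hv : B *ᵥ ![μ * ν, 0] = (μ * ν) • a := by rw [hBc]; simp
      have hr : ![0, 1] ᵥ* C = (ν * μ)⁻¹ • φ := by rw [hrC]; simp
      have h1 : Has G ((μ * ν) • a) ((ν * μ)⁻¹ • φ) := by
        apply Has.smul_left
        rw [smul_smul, mul_comm ν μ, mul_inv_cancel₀ hlam, one_smul]
        exact ha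
      obtain ⟨h3, h4⟩ := h1
      rw [e, emb_T B C hCB _ _ e0 (by rw [hv, hr]; exact h3), T_congr hv hr]
      exact h4
  -- the given element
  have hv : B *ᵥ ![p, ν⁻¹ * q] = p • a + q • b := by
    rw [hBc]; simp [mul_inv_cancel_left₀ hν]
  have hr : ![ν * r, ν * μ * s] ᵥ* C = r • ψ + s • φ := by
    rw [hrC]
    have e1 : ν * r * ν⁻¹ = r := by field_simp
    have e2 : ν * μ * s * (ν * μ)⁻¹ = s := by field_simp
    simp only [Matrix.cons_val_zero, Matrix.cons_val_one, e1, e2]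
  have e0 : (![ν * r, ν * μ * s] : Fin 2 → F) ⬝ᵥ ![p, ν⁻¹ * q] = 0 := by
    rw [add_dotProduct, dotProduct_add, dotProduct_add, smul_dotProduct, smul_dotProduct, smul_dotProduct,
      smul_dotProduct, smul_dot, smul_dot, smul_dot, smul_dot, hφa, hψb, ← hμd, ← hνd] at h0
    simp only [smul_eq_mul] at h0
    simp [dotProduct, Fin.sum_univ_two]
    field_simp
    linear_combination h0
  have h3 : T ![p, ν⁻¹ * q] ![ν * r, ν * μ * s] e0 ∈ G.comap (emb B C hCB) := by rw [htop]; trivial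
  have h4 : emb B C hCB (T ![p, ν⁻¹ * q] ![ν * r, ν * μ * s] e0) ∈ G := h3
  rw [emb_T B C hCB _ _ e0 (by rw [hv, hr]; exact h0), T_congr hv hr] at h4
  exact ⟨h0, h4⟩

end Cfsg.Agent.H42.CycGen
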