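import Mathlib
import Cfsg.Agent.H42.CycGen7

/-!
Two conjugate regular unipotent elements generating `SL_3(q)`, `q` odd.
-/

set_option autoImplicit false

namespace Cfsg.Agent.H42.CycGen

open Matrix Cfsg.Agent.H36.SLT Cfsg.Agent.H42.ThreeUnip

variable {F : Type*} [Field F]

theorem Hm_det {n : ℕ} {r : F} {a φ : Fin n → F} (h : φ ⬝ᵥ a = 1) : (Hm r a φ).det = r := by
  rw [Hm, ← smul_vecMulVec, vecMulVec_eq Unit, det_one_add_replicateCol_mul_replicateRow, smul_dot, h]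
  ring

theorem three_odd [Finite F] (h2 : (2 : F) ≠ 0) {t : F} (ht0 : t ≠ 0) (ht2 : t ≠ 2) (ht3 : t ≠ 3)
    (hgen : Subfield.closure ({16 * t ^ 2 * (t - 3)} : Set F) = ⊤)
    (h9 : ¬ (Nat.card F = 9 ∧ (16 * t ^ 2 * (t - 3)) ^ 2 = -1)) : Pair F 3 := by
  haveI := Fintype.ofFinite F
  have hn0 : 0 < 3 := by norm_num
  obtain ⟨u, hu⟩ : ∃ u : Matrix.SpecialLinearGroup (Fin 3) F, (u : Matrix (Fin 3) (Fin 3) F) = Um F 3 :=
    ⟨⟨Um F 3, Um_det⟩, rfl⟩
  obtain ⟨d, hd⟩ : ∃ d : ℕ → F, d = fun j => if j = 0 then t else if j = 1 then 1 - t else t - 2 := ⟨_, rfl⟩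
  obtain ⟨φ, hφ⟩ : ∃ φ : Fin 3 → F, φ = fun i : Fin 3 => d (3 - 1 - i) := ⟨_, rfl⟩
  obtain ⟨a, ha⟩ : ∃ a, a = av u (el F 3 hn0) 1 := ⟨_, rfl⟩
  have fm1 : φ ⬝ᵥ av u a (-1) = t := by
    rw [hφ, ha, fdot hn0 hu d 1 (-1) 0 (by norm_num)]
    simp [Finset.sum_range_succ, hd]
  have f0 : φ ⬝ᵥ av u a 0 = 1 := by
    rw [hφ, ha, fdot hn0 hu d 1 0 1 (by norm_num)]
    simp [Finset.sum_range_succ, hd]
  have f1 : φ ⬝ᵥ av u a 1 = 0 := by
    rw [hφ, ha, fdot hn0 hu d 1 1 2 (by norm_num)]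
    simp [Finset.sum_range_succ, hd, Nat.choose]
    ring
  have f2 : φ ⬝ᵥ av u a 2 = t - 3 := by
    rw [hφ, ha, fdot hn0 hu d 1 2 3 (by norm_num)]
    simp [Finset.sum_range_succ, hd, Nat.choose]
    ring
  have f3 : φ ⬝ᵥ av u a 3 = 3 * t - 8 := by
    rw [hφ, ha, fdot hn0 hu d 1 3 4 (by norm_num)]
    simp [Finset.sum_range_succ, hd, Nat.choose]
    ring
  have ha0 : av u a 0 = a := av_zero a
  have hφa : φ ⬝ᵥ a = 1 := by rw [← ha0, f0]
  have hm1 : (-1 : F) ≠ 0 := neg_ne_zero.mpr one_ne_zero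
  have hinv : (-1 : F)⁻¹ = -1 := by norm_num
  obtain ⟨x, hx⟩ : ∃ x : Matrix.SpecialLinearGroup (Fin 3) F, (x : Matrix (Fin 3) (Fin 3) F) = -Hm (-1) a φ :=
    ⟨⟨-Hm (-1) a φ, by rw [det_neg, Hm_det hφa]; simp; norm_num⟩, rfl⟩
  have hx2 : x * x = 1 := by
    apply ext'
    have : ((x * x : SpecialLinearGroup (Fin 3) F) : Matrix (Fin 3) (Fin 3) F) =
      (x : Matrix (Fin 3) (Fin 3) F) * (x : Matrix (Fin 3) (Fin 3) F) := rfl
    rw [this, hx, neg_mul_neg, Hm_mul hφa, neg_mul_neg, one_mul, Hm_one]; rfl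
  refine ⟨u, x, reg hn0 hu, ?_⟩
  apply conj_trick (Cfsg.Agent.ClassBase.sl_fin_commutator_eq_top 3 (by omega)) _ _ _ (Or.inl hx2)
  obtain ⟨G, hG⟩ : ∃ G, G = Subgroup.closure ({u, x} : Set (SpecialLinearGroup (Fin 3) F)) := ⟨_, rfl⟩
  rw [← hG]
  have huG : u ∈ G := by rw [hG]; exact Subgroup.subset_closure (by simp)
  have hxG : x ∈ G := by rw [hG]; exact Subgroup.subset_closure (by simp)
  have hφu : ∀ k : ℤ, ∀ l : ℤ, (φ ᵥ* (((u ^ k)⁻¹ : SpecialLinearGroup (Fin 3) F) : Matrix (Fin 3) (Fin 3) F)) ⬝ᵥ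
      av u a l = φ ⬝ᵥ av u a (l - k) := by
    intro k l
    rw [← dotProduct_mulVec, ← _root_.zpow_neg, av_zpow]
    congr 2
    ring
  obtain ⟨φ1, hφ1⟩ : ∃ φ1, φ1 = φ ᵥ* ((u⁻¹ : SpecialLinearGroup (Fin 3) F) : Matrix (Fin 3) (Fin 3) F) := ⟨_, rfl⟩
  have hφ1' : ∀ l : ℤ, φ1 ⬝ᵥ av u a l = φ ⬝ᵥ av u a (l - 1) := by
    intro l
    have := hφu 1 l
    rw [zpow_one] at this
    rw [hφ1]; exact this
  -- first transvection
  have hT : Has G ((4 * t) • av u a 1) φ := by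
    have h0 : φ ⬝ᵥ ((4 * t) • av u a 1) = 0 := by rw [smul_dot, f1, mul_zero]
    refine ⟨h0, ?_⟩
    have e : (x * (u * x * u⁻¹)) * (x * (u * x * u⁻¹)) = T _ φ h0 := by
      apply ext'
      rw [coe_T]
      have e1 : (((x * (u * x * u⁻¹)) * (x * (u * x * u⁻¹)) : SpecialLinearGroup (Fin 3) F) :
          Matrix (Fin 3) (Fin 3) F) = ((x : Matrix (Fin 3) (Fin 3) F) * ((u : Matrix (Fin 3) (Fin 3) F) *
          (x : Matrix (Fin 3) (Fin 3) F) * ((u⁻¹ : SpecialLinearGroup (Fin 3) F) : Matrix (Fin 3) (Fin 3) F))) *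
          ((x : Matrix (Fin 3) (Fin 3) F) * ((u : Matrix (Fin 3) (Fin 3) F) *
          (x : Matrix (Fin 3) (Fin 3) F) * ((u⁻¹ : SpecialLinearGroup (Fin 3) F) : Matrix (Fin 3) (Fin 3) F))) := rfl
      have e2 : (u : Matrix (Fin 3) (Fin 3) F) *ᵥ a = av u a 1 := by
        have := av_succ (u := u) a 0
        rw [ha0, zero_add] at this
        exact this
      have e3 : (x : Matrix (Fin 3) (Fin 3) F) * ((u : Matrix (Fin 3) (Fin 3) F) *
          (x : Matrix (Fin 3) (Fin 3) F) * ((u⁻¹ : SpecialLinearGroup (Fin 3) F) : Matrix (Fin 3) (Fin 3) F)) =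
          Hm (-1) a φ * Hm (-1) (av u a 1) φ1 := by
        rw [hx]
        simp only [mul_neg, neg_mul, neg_neg]
        rw [conj_Hm, e2, hφ1]
      have h4 : φ1 ⬝ᵥ av u a 1 = 1 := by rw [hφ1', sub_self, f0]
      have k := Hm_commutator hm1 hφa h4 f1
      rw [hinv] at k
      rw [e1, e3, k]
      congr 2
      congr 1
      have h5 : φ1 ⬝ᵥ a = t := by
        have := hφ1' 0
        rw [ha0, zero_sub, fm1] at this
        exact this
      rw [h5]
      ring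
    rw [← e]
    have h1 : x * (u * x * u⁻¹) ∈ G := G.mul_mem hxG (G.mul_mem (G.mul_mem huG hxG) (G.inv_mem huG))
    exact G.mul_mem h1 h1
  have hT1 : Has G ((4 * t) • av u a 2) φ1 := by
    have h1 := hT.conj huG
    rw [mulVec_smul, av_succ, ← hφ1] at h1
    norm_num at h1
    exact h1
  have h4 : (4 : F) ≠ 0 := by
    have : (4 : F) = 2 ^ 2 := by norm_num
    rw [this]; exact pow_ne_zero _ h2
  have h4t : 4 * t ≠ 0 := mul_ne_zero h4 ht0
  have ht3' : t - 3 ≠ 0 := sub_ne_zero.mpr ht3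
  have eμ : φ ⬝ᵥ ((4 * t) • av u a 2) = 4 * t * (t - 3) := by rw [smul_dot, f2]
  have eν : φ1 ⬝ᵥ ((4 * t) • av u a 1) = 4 * t := by
    rw [smul_dot, hφ1', sub_self, f0, mul_one]
  have elam : (φ ⬝ᵥ ((4 * t) • av u a 2)) * (φ1 ⬝ᵥ ((4 * t) • av u a 1)) = 16 * t ^ 2 * (t - 3) := by
    rw [eμ, eν]; ring
  have key := dick_plane h2 hT hT1 (by rw [eμ]; exact mul_ne_zero h4t ht3') (by rw [eν]; exact h4t)
    (by rw [elam]; exact hgen) (by rw [elam, ← Nat.card_eq_fintype_card]; exact h9)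
  have hA1 : av u a 1 ∈ AA G φ := by
    intro y
    have h1 := key (y * (4 * t)⁻¹) 0 0 1 (by
      rw [zero_smul, zero_smul, one_smul, zero_add, add_zero, smul_smul, smul_dot, f1, mul_zero])
    rw [zero_smul, zero_smul, one_smul, zero_add, add_zero, smul_smul, inv_mul_cancel_right₀ h4t] at h1
    exact h1
  -- second vector
  obtain ⟨b, hb⟩ : ∃ b, b = (3 * t - 8) • av u a 2 - (t - 3) • av u a 3 := ⟨_, rfl⟩
  have φ1a1 : φ1 ⬝ᵥ av u a 1 = 1 := by rw [hφ1', sub_self, f0]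
  have φ1a2 : φ1 ⬝ᵥ av u a 2 = 0 := by rw [hφ1']; norm_num; exact f1
  have hAb : b ∈ AA G φ := by
    intro y
    have h1 := key ((3 * t - 8) * (4 * t)⁻¹) (-((t - 3) * (4 * t)⁻¹)) ((t - 3) ^ 2) (3 * t - 8) (by
      rw [smul_smul, smul_smul, neg_mul, inv_mul_cancel_right₀ h4t, inv_mul_cancel_right₀ h4t, add_dotProduct,
        dotProduct_add, dotProduct_add, smul_dotProduct, smul_dotProduct, smul_dotProduct,
        smul_dotProduct, smul_dot, smul_dot, smul_dot, smul_dot, f1, f2, φ1a1, φ1a2]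
      simp only [smul_eq_mul]
      ring)
    rw [smul_smul, smul_smul, neg_mul, inv_mul_cancel_right₀ h4t, inv_mul_cancel_right₀ h4t] at h1
    have h3 := h1.conj huG
    have e1 : (u : Matrix (Fin 3) (Fin 3) F) *ᵥ ((3 * t - 8) • av u a 1 + -(t - 3) • av u a 2) = b := by
      rw [mulVec_add, mulVec_smul, mulVec_smul, av_succ, av_succ, hb, neg_smul, ← sub_eq_add_neg]
      norm_num
    rw [e1] at h3
    have hφb : φ ⬝ᵥ b = 0 := by
      rw [hb, dotProduct_sub, smul_dot, smul_dot, f2, f3]; ring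
    have h5 := (hA1 (y * ((t - 2) ^ 3)⁻¹)).comm h3 hφb
    have ht2' : (t - 2) ^ 3 ≠ 0 := pow_ne_zero _ (sub_ne_zero.mpr ht2)
    have e2 : (((t - 3) ^ 2 • φ1 + (3 * t - 8) • φ) ᵥ*
        ((u⁻¹ : SpecialLinearGroup (Fin 3) F) : Matrix (Fin 3) (Fin 3) F)) ⬝ᵥ
        ((y * ((t - 2) ^ 3)⁻¹) • av u a 1) = y := by
      have e3 : ((u⁻¹ : SpecialLinearGroup (Fin 3) F) : Matrix (Fin 3) (Fin 3) F) *ᵥ av u a 1 = av u a 0 := by
        have := av_zpow (u := u) a (-1) 1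
        rw [_root_.zpow_neg, zpow_one] at this
        rw [this]; norm_num
      have φ1a0 : φ1 ⬝ᵥ av u a 0 = t := by rw [hφ1', zero_sub, fm1]
      rw [← dotProduct_mulVec, mulVec_smul, smul_dot, e3, add_dotProduct, smul_dotProduct, smul_dotProduct,
        f0, φ1a0]
      simp only [smul_eq_mul]
      have e4 : (t - 3) ^ 2 * t + (3 * t - 8) * 1 = (t - 2) ^ 3 := by ring
      rw [e4, inv_mul_cancel_right₀ ht2']
    rw [e2] at h5
    exact h5
  have hrec : av u a 3 = (3 : F) • av u a 2 - (3 : F) • av u a 1 + av u a 0 := by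
    have h0 : (Um F 3 - 1) ^ 3 = 0 := by
      ext i j
      rw [N_pow, if_neg (by have := j.2; omega)]
      rfl
    have h3 : Um F 3 ^ 3 = 3 • Um F 3 ^ 2 - 3 • Um F 3 + 1 := by
      have h4 : (Um F 3 - 1) ^ 3 = Um F 3 ^ 3 - (3 • Um F 3 ^ 2 - 3 • Um F 3 + 1) := by
        noncomm_ring
      rw [h0] at h4
      exact (sub_eq_zero.mp h4.symm)
    have g3 : av u a 3 = av u a (3 : ℕ) := by norm_num
    have g2 : av u a 2 = av u a (2 : ℕ) := by norm_num
    have g1 : av u a 1 = av u a (1 : ℕ) := by norm_num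
    rw [g3, g2, g1, ha0, av_natCast, av_natCast, av_natCast, hu, h3, add_mulVec,
      sub_mulVec, one_mulVec, pow_one, smul_mulVec, smul_mulVec]
    ext i
    simp
  have hfull : Full G φ := by
    apply full_of_span (p := av u a 0) (by rw [f0]; exact one_ne_zero)
    obtain ⟨U, hU⟩ : ∃ U : Submodule F (Fin 3 → F), U = AA G φ ⊔ Submodule.span F {av u a 0} := ⟨_, rfl⟩
    have hAU : ∀ a, a ∈ AA G φ → a ∈ U := fun a ha => by rw [hU]; exact Submodule.mem_sup_left ha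
    have h0U : av u a 0 ∈ U := by
      rw [hU]; exact Submodule.mem_sup_right (Submodule.mem_span_singleton_self _)
    have h2U : av u a 2 ∈ U := by
      have e : av u a 2 = b - (3 * (t - 3)) • av u a 1 + (t - 3) • av u a 0 := by
        rw [hb, hrec]
        module
      rw [e]
      exact U.add_mem (U.sub_mem (hAU _ hAb) (U.smul_mem _ (hAU _ hA1))) (U.smul_mem _ h0U)
    rw [← hU]
    apply span_top (by omega) hu _ 1
    intro i hi
    have e : av u (el F 3 (by omega)) (1 + i) = av u a i := by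
      rw [ha, av_av, add_comm]
    rw [e]
    interval_cases i
    · norm_num; exact h0U
    · norm_num; exact hAU _ hA1
    · norm_num; exact h2U
  refine top_of_full (by omega) hu huG (φ := φ) ?_ hfull
  rw [hφ, hd]
  simpa using sub_ne_zero.mpr ht2

end Cfsg.Agent.H42.CycGen
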