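import Mathlib
import Cfsg.Agent.H42.CycGen8

/-!
Two conjugate regular unipotent elements generating `SL_3(q)`: choice of the parameter, and `q = 4`.
-/

set_option autoImplicit false

namespace Cfsg.Agent.H42.CycGen

open Matrix Cfsg.Agent.H36.SLT Cfsg.Agent.H42.ThreeUnip Polynomial

variable {F : Type*} [Field F]

theorem card_fix_le [Fintype F] [DecidableEq F] {N : ℕ} (hN : 2 ≤ N) :
    (Finset.univ.filter (fun x : F => x ^ N = x)).card ≤ N := by
  have h0 : (X ^ N - X : F[X]) ≠ 0 := FiniteField.X_pow_card_sub_X_ne_zero F (by omega)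
  have h1 : (X ^ N - X : F[X]).natDegree = N := FiniteField.X_pow_card_sub_X_natDegree_eq F (by omega)
  have h2 : (Finset.univ.filter (fun x : F => x ^ N = x)) ⊆ (X ^ N - X : F[X]).roots.toFinset := by
    intro x hx
    rw [Finset.mem_filter] at hx
    rw [Multiset.mem_toFinset, mem_roots h0]
    simp [IsRoot, hx.2]
  calc _ ≤ _ := Finset.card_le_card h2
    _ ≤ _ := Multiset.toFinset_card_le _
    _ ≤ _ := card_roots' _
    _ = N := h1

theorem card_fib_le [Fintype F] [DecidableEq F] (h2 : (2 : F) ≠ 0) (b : F) :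
    (Finset.univ.filter (fun t : F => 16 * t ^ 2 * (t - 3) = b)).card ≤ 3 := by
  have h16 : (16 : F) ≠ 0 := by
    have : (16 : F) = 2 ^ 4 := by norm_num
    rw [this]; exact pow_ne_zero _ h2
  obtain ⟨P, hP⟩ : ∃ P : F[X], P = C 16 * X ^ 3 + C (-48) * X ^ 2 + C 0 * X + C (-b) := ⟨_, rfl⟩
  have hd : P.natDegree = 3 := by rw [hP]; exact natDegree_cubic h16
  have h0 : P ≠ 0 := by
    intro h
    rw [h, natDegree_zero] at hd
    omega
  have h3 : (Finset.univ.filter (fun t : F => 16 * t ^ 2 * (t - 3) = b)) ⊆ P.roots.toFinset := by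
    intro x hx
    rw [Finset.mem_filter] at hx
    rw [Multiset.mem_toFinset, mem_roots h0]
    simp [IsRoot, hP]
    linear_combination hx.2
  calc _ ≤ _ := Finset.card_le_card h3
    _ ≤ _ := Multiset.toFinset_card_le _
    _ ≤ _ := card_roots' _
    _ = 3 := hd

theorem sum_bound {p : ℕ} (hp : 5 ≤ p) (h : ℕ) : 4 * ∑ d ∈ Finset.Icc 1 h, p ^ d + 5 ≤ 5 * p ^ h := by
  induction h with
  | zero => simp
  | succ h ih =>
    rw [Finset.sum_Icc_succ_top (by omega)]
    have : 5 * p ^ h ≤ p ^ (h + 1) := by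
      rw [pow_succ, mul_comm]
      exact Nat.mul_le_mul_left _ hp
    omega

theorem exists_t [Finite F] (h2 : (2 : F) ≠ 0) (h3 : (3 : F) ≠ 0) :
    ∃ t : F, t ≠ 0 ∧ t ≠ 2 ∧ t ≠ 3 ∧ Subfield.closure ({16 * t ^ 2 * (t - 3)} : Set F) = ⊤ := by
  classical
  haveI := Fintype.ofFinite F
  obtain ⟨p, hpc⟩ := CharP.exists F
  obtain ⟨k, hp, hk⟩ := FiniteField.card F p
  have hp2 : p ≠ 2 := by
    rintro rfl
    exact h2 (by exact_mod_cast CharP.cast_eq_zero F 2)
  have hp3 : p ≠ 3 := by
    rintro rfl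
    exact h3 (by exact_mod_cast CharP.cast_eq_zero F 3)
  have hp5 : 5 ≤ p := by
    have := hp.two_le
    by_contra hlt
    have : p = 4 := by omega
    subst this
    exact absurd hp (by norm_num)
  have hkpos : 0 < (k : ℕ) := k.2
  -- the bad set
  obtain ⟨B, hB⟩ : ∃ B : Finset F, B = (Finset.Icc 1 ((k : ℕ) / 2)).biUnion
      (fun d => Finset.univ.filter (fun x : F => x ^ (p ^ d) = x)) := ⟨_, rfl⟩
  have hBc : B.card ≤ ∑ d ∈ Finset.Icc 1 ((k : ℕ) / 2), p ^ d := by
    rw [hB]
    refine Finset.card_biUnion_le.trans (Finset.sum_le_sum fun d hd => ?_)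
    apply card_fix_le
    rw [Finset.mem_Icc] at hd
    calc 2 ≤ p := by omega
      _ = p ^ 1 := (pow_one p).symm
      _ ≤ p ^ d := Nat.pow_le_pow_right (by omega) hd.1
  have hBad : ∀ x : F, Subfield.closure ({x} : Set F) ≠ ⊤ → x ∈ B := by
    intro x hx
    obtain ⟨K, hK⟩ : ∃ K, K = Subfield.closure ({x} : Set F) := ⟨_, rfl⟩
    rw [← hK] at hx
    have hxK : x ∈ K := by rw [hK]; exact Subfield.subset_closure rfl
    haveI := Fintype.ofFinite K
    have h4 := subfield_sq K hx
    obtain ⟨p', hpc'⟩ := CharP.exists K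
    obtain ⟨d, hp', hd⟩ := FiniteField.card K p'
    have h5 : Nat.card F = Nat.card K ^ Module.finrank K F := Module.natCard_eq_pow_finrank
    have hpp : p' = p := by
      have h6 : p' ∣ p ^ (k : ℕ) := by
        rw [← hk, ← Nat.card_eq_fintype_card, h5, Nat.card_eq_fintype_card, hd]
        have h7 : Module.finrank K F ≠ 0 := Module.finrank_pos.ne'
        exact dvd_pow (dvd_pow_self p' d.ne_zero) h7
      exact (Nat.prime_dvd_prime_iff_eq hp' hp).mp (hp'.dvd_of_dvd_pow h6)
    subst hpp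
    rw [Nat.card_eq_fintype_card, Nat.card_eq_fintype_card, hd, hk, ← pow_mul] at h4
    have h8 : (d : ℕ) * 2 ≤ k := (Nat.pow_le_pow_iff_right hp'.one_lt).mp h4
    rw [hB, Finset.mem_biUnion]
    refine ⟨d, ?_, ?_⟩
    · rw [Finset.mem_Icc]
      have : 0 < (d : ℕ) := d.2
      omega
    · rw [Finset.mem_filter]
      refine ⟨Finset.mem_univ _, ?_⟩
      have h9 := FiniteField.pow_card (⟨x, hxK⟩ : K)
      rw [hd] at h9
      exact congrArg Subtype.val h9
  obtain ⟨A, hA⟩ : ∃ A : Finset F, A = Finset.univ.filter (fun t : F => 16 * t ^ 2 * (t - 3) ∈ B) := ⟨_, rfl⟩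
  have hAc : A.card ≤ 3 * B.card := by
    apply Finset.card_le_mul_card_image_of_maps_to (f := fun t : F => 16 * t ^ 2 * (t - 3))
    · intro t ht
      rw [hA, Finset.mem_filter] at ht
      exact ht.2
    · intro b _
      refine (Finset.card_le_card ?_).trans (card_fib_le h2 b)
      intro t ht
      rw [Finset.mem_filter] at ht ⊢
      exact ⟨Finset.mem_univ _, ht.2⟩
  have hsb := sum_bound hp5 ((k : ℕ) / 2)
  have hcard3 : ({0, 2, 3} : Finset F).card ≤ 3 := Finset.card_le_three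
  have hlt : (A ∪ {0, 2, 3}).card < Fintype.card F := by
    refine (Finset.card_union_le _ _).trans_lt ?_
    rw [hk]
    rcases Nat.eq_zero_or_pos ((k : ℕ) / 2) with h0 | h0
    · rw [h0, pow_zero] at hsb
      have h10 : p ^ 1 ≤ p ^ (k : ℕ) := Nat.pow_le_pow_right (by omega) hkpos
      rw [pow_one] at h10
      rw [h0] at hBc
      omega
    · have h10 : p ^ ((k : ℕ) / 2 + (k : ℕ) / 2) ≤ p ^ (k : ℕ) := Nat.pow_le_pow_right (by omega) (by omega)
      rw [pow_add] at h10
      have h11 : p ^ 1 ≤ p ^ ((k : ℕ) / 2) := Nat.pow_le_pow_right (by omega) h0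
      rw [pow_one] at h11
      have h12 : 5 ≤ p ^ ((k : ℕ) / 2) := by omega
      have h13 : 5 * p ^ ((k : ℕ) / 2) ≤ p ^ (k : ℕ) := le_trans (Nat.mul_le_mul_right _ h12) h10
      omega
  obtain ⟨t, ht⟩ : ∃ t, t ∉ A ∪ {0, 2, 3} := by
    by_contra hcon
    push Not at hcon
    have : (A ∪ {0, 2, 3}) = Finset.univ := Finset.eq_univ_iff_forall.mpr hcon
    rw [this, Finset.card_univ] at hlt
    exact lt_irrefl _ hlt
  rw [Finset.mem_union, not_or] at ht
  obtain ⟨ht1, ht2⟩ := ht
  simp only [Finset.mem_insert, Finset.mem_singleton, not_or] at ht2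
  refine ⟨t, ht2.1, ht2.2.1, ht2.2.2, ?_⟩
  by_contra hcon
  exact ht1 (by rw [hA, Finset.mem_filter]; exact ⟨Finset.mem_univ _, hBad _ hcon⟩)

theorem order_gen [Finite F] {θ : F} (hθ0 : θ ≠ 0) (hθ : ∀ x : F, x ≠ 0 → ∃ k : ℕ, θ ^ k = x) :
    orderOf θ = Nat.card F - 1 := by
  have h6 : orderOf (Units.mk0 θ hθ0) = Nat.card Fˣ := by
    apply orderOf_eq_card_of_forall_mem_zpowers
    intro y
    obtain ⟨k, hk⟩ := hθ (y : F) y.ne_zero
    refine ⟨(k : ℤ), Units.ext ?_⟩
    have e : (fun x : ℤ => Units.mk0 θ hθ0 ^ x) (k : ℤ) = Units.mk0 θ hθ0 ^ k := zpow_natCast _ k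
    rw [e, Units.val_pow_eq_pow_val]; exact hk
  rw [← orderOf_units, Units.val_mk0, Nat.card_units] at h6
  exact h6

theorem pair_three_odd [Finite F] (h2 : (2 : F) ≠ 0) : Pair F 3 := by
  haveI := Fintype.ofFinite F
  by_cases h3 : (3 : F) = 0
  · have hd : 3 ∣ Nat.card F := prime_dvd_card Nat.prime_three (by exact_mod_cast h3)
    by_cases hq : Nat.card F = 3
    · have h1 : (1 : F) ≠ 2 := by
        intro h
        have : (1 : F) = 2 - 1 := by norm_num
        rw [← h, sub_self] at this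
        exact one_ne_zero this
      refine three_odd h2 (t := 1) one_ne_zero h1 (by rw [h3]; exact one_ne_zero) ?_ ?_
      · rw [eq_top_iff]
        intro y _
        have h5 : (Subfield.closure ({16 * 1 ^ 2 * (1 - 3)} : Set F)).toSubring.toAddSubgroup = ⊤ :=
          S_prime (by rw [hq]; exact Nat.prime_three) _ 1 one_ne_zero (Subfield.one_mem _)
        have h6 : y ∈ (Subfield.closure ({16 * 1 ^ 2 * (1 - 3)} : Set F)).toSubring.toAddSubgroup := by
          rw [h5]; trivial
        exact h6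
      · rintro ⟨h, _⟩; omega
    · obtain ⟨θ, hθ0, hθ⟩ := exists_gen (F := F)
      have hord := order_gen hθ0 hθ
      have hge : 4 ≤ Nat.card F := by
        have : 2 ≤ Nat.card F := Finite.one_lt_card
        omega
      have e16 : (16 : F) = 1 := by linear_combination 5 * h3
      have elam : 16 * θ ^ 2 * (θ - 3) = θ ^ 3 := by rw [e16, h3]; ring
      refine three_odd h2 (t := θ) hθ0 ?_ (by rw [h3]; exact hθ0) ?_ ?_
      · intro h
        have h5 : θ ^ 2 = 1 := by rw [h]; linear_combination h3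
        have h6 := orderOf_dvd_of_pow_eq_one h5
        have := Nat.le_of_dvd (by norm_num) h6
        omega
      · rw [elam]
        apply closure_cube hθ0 hθ
        intro h
        rw [h] at hd
        omega
      · rintro ⟨h, h5⟩
        rw [elam] at h5
        have h6 : θ ^ 12 = 1 := by
          have : θ ^ 12 = ((θ ^ 3) ^ 2) ^ 2 := by ring
          rw [this, h5]; norm_num
        have h7 := orderOf_dvd_of_pow_eq_one h6
        rw [hord, h] at h7
        omega
  · obtain ⟨t, h0, h2', h3', hc⟩ := exists_t h2 h3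
    refine three_odd h2 h0 h2' h3' hc ?_
    rintro ⟨h, _⟩
    apply h3
    have := cast_eq_zero_of_dvd_card (F := F) Nat.prime_three (by rw [h]; norm_num)
    exact_mod_cast this

theorem pair_three_even [Finite F] (h2 : (2 : F) = 0) (h4 : Nat.card F ≠ 4) : Pair F 3 := by
  obtain ⟨θ, hθ0, hθ⟩ := exists_gen (F := F)
  apply pair_coreI h2 le_rfl θ hθ0
  intro S h1 hm
  exact S_closure (closure_cube hθ0 hθ h4) S h1 hm

end Cfsg.Agent.H42.CycGen
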