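import Mathlib
import Cfsg.Agent.H42.CycGen9

/-!
Two conjugate regular unipotent elements generating `SL_3(4)`.
-/

set_option autoImplicit false

namespace Cfsg.Agent.H42.CycGen

open Matrix Cfsg.Agent.H36.SLT Cfsg.Agent.H42.ThreeUnip

variable {F : Type*} [Field F]

theorem Um3 : Um F 3 = !![1, 1, 0; 0, 1, 1; 0, 0, 1] := by
  ext i j
  fin_cases i <;> fin_cases j <;> simp [Um]

theorem Um3_mulVec (a b c : F) : Um F 3 *ᵥ ![a, b, c] = ![a + b, b + c, c] := by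
  rw [Um3]
  ext i
  fin_cases i <;> simp [mulVec, dotProduct, Fin.sum_univ_three]

theorem pair_three_four [Finite F] (hq : Nat.card F = 4) : Pair F 3 := by
  haveI := Fintype.ofFinite F
  have hn0 : 0 < 3 := by norm_num
  have h2 : (2 : F) = 0 := by
    have := cast_eq_zero_of_dvd_card (F := F) Nat.prime_two (by rw [hq]; norm_num)
    exact_mod_cast this
  obtain ⟨w, hw0, hwgen⟩ := exists_gen (F := F)
  have hord := order_gen hw0 hwgen
  rw [hq] at hord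
  have hw : w ^ 2 + w + 1 = 0 := by
    have h3 : w ^ 3 = 1 := by
      have := pow_orderOf_eq_one w
      rw [hord] at this
      exact this
    have h1 : w ≠ 1 := by
      intro h
      rw [h, orderOf_one] at hord
      omega
    have h4 : (w - 1) * (w ^ 2 + w + 1) = 0 := by ring_nf; rw [h3]; ring
    exact (mul_eq_zero.mp h4).resolve_left (sub_ne_zero.mpr h1)
  obtain ⟨u, hu⟩ : ∃ u : Matrix.SpecialLinearGroup (Fin 3) F, (u : Matrix (Fin 3) (Fin 3) F) = Um F 3 :=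
    ⟨⟨Um F 3, Um_det⟩, rfl⟩
  have hφa0 : (![w, 1, 0] : Fin 3 → F) ⬝ᵥ ![0, 0, 1] = 0 := by simp
  obtain ⟨x, hx⟩ : ∃ x : Matrix.SpecialLinearGroup (Fin 3) F, x = T ![0, 0, 1] ![w, 1, 0] hφa0 := ⟨_, rfl⟩
  have hx2 : x * x = 1 := by
    rw [hx, T_mul_same_right]
    have e : (![0, 0, 1] : Fin 3 → F) + ![0, 0, 1] = 0 := by rw [← two_smul F, h2, zero_smul]
    rw [T_congr e rfl, T_zero_left]
  have hxi : x⁻¹ = x := inv_eq_of_mul_eq_one_left hx2
  refine ⟨u, x, reg hn0 hu, ?_⟩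
  apply conj_trick (Cfsg.Agent.ClassBase.sl_fin_commutator_eq_top 3 (by omega)) _ _ _ (Or.inl hx2)
  obtain ⟨G, hG⟩ : ∃ G, G = Subgroup.closure ({u, x} : Set (SpecialLinearGroup (Fin 3) F)) := ⟨_, rfl⟩
  rw [← hG]
  have huG : u ∈ G := by rw [hG]; exact Subgroup.subset_closure (by simp)
  have hxG : x ∈ G := by rw [hG]; exact Subgroup.subset_closure (by simp)
  have cm : ∀ (g h : SpecialLinearGroup (Fin 3) F) (v : Fin 3 → F),
      ((g * h : SpecialLinearGroup (Fin 3) F) : Matrix (Fin 3) (Fin 3) F) *ᵥ v =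
        (g : Matrix (Fin 3) (Fin 3) F) *ᵥ ((h : Matrix (Fin 3) (Fin 3) F) *ᵥ v) := by
    intro g h v; rw [mulVec_mulVec]; rfl
  -- actions
  have au : ∀ a b c : F, (u : Matrix (Fin 3) (Fin 3) F) *ᵥ ![a, b, c] = ![a + b, b + c, c] := by
    intro a b c; rw [hu, Um3_mulVec]
  have au' : ∀ a b c : F, ((u⁻¹ : SpecialLinearGroup (Fin 3) F) : Matrix (Fin 3) (Fin 3) F) *ᵥ ![a, b, c] =
      ![a - b + c, b - c, c] := by
    intro a b c
    have h1 : (u : Matrix (Fin 3) (Fin 3) F) *ᵥ ![a - b + c, b - c, c] = ![a, b, c] := by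
      rw [au]
      ext i; fin_cases i <;> simp
    rw [← h1, mulVec_mulVec, inv_mul_coe, one_mulVec]
  have ax : ∀ a b c : F, (x : Matrix (Fin 3) (Fin 3) F) *ᵥ ![a, b, c] = ![a, b, w * a + b + c] := by
    intro a b c
    rw [hx, T_mulVec]
    ext i; fin_cases i <;> simp [dotProduct, Fin.sum_univ_three]
    ring
  obtain ⟨a, ha⟩ : ∃ a : Fin 3 → F, a = ![1, 0, 0] := ⟨_, rfl⟩
  obtain ⟨φ, hφ⟩ : ∃ φ : Fin 3 → F, φ = ![0, 0, 1] := ⟨_, rfl⟩
  have hφv : ∀ p q r : F, φ ⬝ᵥ ![p, q, r] = r := by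
    intro p q r; rw [hφ]; simp [dotProduct, Fin.sum_univ_three]
  have hφa : φ ⬝ᵥ a = 0 := by rw [ha, hφv]
  have ht : Has G a φ := by
    refine ⟨hφa, ?_⟩
    have e : u * u = T a φ hφa := by
      apply ext'
      have e1 : ((u * u : SpecialLinearGroup (Fin 3) F) : Matrix (Fin 3) (Fin 3) F) =
        (u : Matrix (Fin 3) (Fin 3) F) * (u : Matrix (Fin 3) (Fin 3) F) := rfl
      have e11 : (1 : F) + 1 = 0 := by rw [← h2]; norm_num
      rw [e1, coe_T, hu, Um3, ha, hφ]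
      ext i j
      fin_cases i <;> fin_cases j <;>
        simp [Matrix.mul_apply, Fin.sum_univ_three, vecMulVec_apply, e11]
    rw [← e]
    exact G.mul_mem huG huG
  have rule' : ∀ g ∈ G, ∀ v : Fin 3 → F, (g : Matrix (Fin 3) (Fin 3) F) *ᵥ a = v → φ ⬝ᵥ v = 0 →
      φ ⬝ᵥ (((g⁻¹ : SpecialLinearGroup (Fin 3) F) : Matrix (Fin 3) (Fin 3) F) *ᵥ a) = 1 → Has G v φ := by
    intro g hg v hv h0 h1
    have h3 := ht.comm (ht.conj hg) (by rw [hv, h0])
    rw [← dotProduct_mulVec, h1, one_smul, hv] at h3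
    exact h3
  have hg1 : Has G ![w, w, 0] φ := by
    apply rule' (x * u * u * x * u⁻¹ * x)
      (G.mul_mem (G.mul_mem (G.mul_mem (G.mul_mem (G.mul_mem hxG huG) huG) hxG) (G.inv_mem huG)) hxG)
    · have e1 : ((x * u * u * x * u⁻¹ * x : SpecialLinearGroup (Fin 3) F) : Matrix (Fin 3) (Fin 3) F) *ᵥ a =
        (x : Matrix (Fin 3) (Fin 3) F) *ᵥ ((u : Matrix (Fin 3) (Fin 3) F) *ᵥ ((u : Matrix (Fin 3) (Fin 3) F) *ᵥ
        ((x : Matrix (Fin 3) (Fin 3) F) *ᵥ (((u⁻¹ : SpecialLinearGroup (Fin 3) F) : Matrix (Fin 3) (Fin 3) F) *ᵥ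
        ((x : Matrix (Fin 3) (Fin 3) F) *ᵥ a))))) := by
        rw [cm, cm, cm, cm, cm]
      rw [e1, ha, ax, au', ax, au, au, ax]
      ext i; fin_cases i <;> simp <;> grind
    · rw [hφv]
    · have e2 : (x * u * u * x * u⁻¹ * x)⁻¹ = x * u * x * u⁻¹ * u⁻¹ * x := by
        rw [_root_.mul_inv_rev, _root_.mul_inv_rev, _root_.mul_inv_rev, _root_.mul_inv_rev, _root_.mul_inv_rev, inv_inv, hxi]
        simp only [mul_assoc]
      have e1 : ((x * u * x * u⁻¹ * u⁻¹ * x : SpecialLinearGroup (Fin 3) F) : Matrix (Fin 3) (Fin 3) F) *ᵥ a =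
        (x : Matrix (Fin 3) (Fin 3) F) *ᵥ ((u : Matrix (Fin 3) (Fin 3) F) *ᵥ ((x : Matrix (Fin 3) (Fin 3) F) *ᵥ
        (((u⁻¹ : SpecialLinearGroup (Fin 3) F) : Matrix (Fin 3) (Fin 3) F) *ᵥ (((u⁻¹ : SpecialLinearGroup (Fin 3) F) : Matrix (Fin 3) (Fin 3) F) *ᵥ
        ((x : Matrix (Fin 3) (Fin 3) F) *ᵥ a))))) := by
        rw [cm, cm, cm, cm, cm]
      rw [e2, e1, ha, ax, au', au', ax, au, ax, hφv]
      grind
  have hg2 : Has G ![0, w + 1, 0] φ := by
    apply rule' (x * u⁻¹ * x * u * u * x)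
      (G.mul_mem (G.mul_mem (G.mul_mem (G.mul_mem (G.mul_mem hxG (G.inv_mem huG)) hxG) huG) huG) hxG)
    · have e1 : ((x * u⁻¹ * x * u * u * x : SpecialLinearGroup (Fin 3) F) : Matrix (Fin 3) (Fin 3) F) *ᵥ a =
        (x : Matrix (Fin 3) (Fin 3) F) *ᵥ (((u⁻¹ : SpecialLinearGroup (Fin 3) F) : Matrix (Fin 3) (Fin 3) F) *ᵥ ((x : Matrix (Fin 3) (Fin 3) F) *ᵥ
        ((u : Matrix (Fin 3) (Fin 3) F) *ᵥ ((u : Matrix (Fin 3) (Fin 3) F) *ᵥ
        ((x : Matrix (Fin 3) (Fin 3) F) *ᵥ a))))) := by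
        rw [cm, cm, cm, cm, cm]
      rw [e1, ha, ax, au, au, ax, au', ax]
      ext i; fin_cases i <;> simp <;> grind
    · rw [hφv]
    · have e2 : (x * u⁻¹ * x * u * u * x)⁻¹ = x * u⁻¹ * u⁻¹ * x * u * x := by
        rw [_root_.mul_inv_rev, _root_.mul_inv_rev, _root_.mul_inv_rev, _root_.mul_inv_rev, _root_.mul_inv_rev, inv_inv, hxi]
        simp only [mul_assoc]
      have e1 : ((x * u⁻¹ * u⁻¹ * x * u * x : SpecialLinearGroup (Fin 3) F) : Matrix (Fin 3) (Fin 3) F) *ᵥ a =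
        (x : Matrix (Fin 3) (Fin 3) F) *ᵥ (((u⁻¹ : SpecialLinearGroup (Fin 3) F) : Matrix (Fin 3) (Fin 3) F) *ᵥ (((u⁻¹ : SpecialLinearGroup (Fin 3) F) : Matrix (Fin 3) (Fin 3) F) *ᵥ
        ((x : Matrix (Fin 3) (Fin 3) F) *ᵥ ((u : Matrix (Fin 3) (Fin 3) F) *ᵥ
        ((x : Matrix (Fin 3) (Fin 3) F) *ᵥ a))))) := by
        rw [cm, cm, cm, cm, cm]
      rw [e2, e1, ha, ax, au, ax, au', au', ax, hφv]
      grind
  -- `u` fixes `φ`
  have hφu : φ ᵥ* ((u⁻¹ : SpecialLinearGroup (Fin 3) F) : Matrix (Fin 3) (Fin 3) F) = φ := by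
    have h1 : φ ᵥ* (u : Matrix (Fin 3) (Fin 3) F) = φ := by
      rw [hφ, hu, Um3]
      ext i; fin_cases i <;> simp [vecMul, dotProduct, Fin.sum_univ_three]
    conv_lhs => rw [← h1]
    rw [vecMul_vecMul, mul_inv_coe, vecMul_one]
  have hg3 : Has G ![0, w, 0] φ := by
    have h1 := hg1.conj huG
    rw [au, hφu] at h1
    refine h1.congr ?_ rfl
    ext i; fin_cases i <;> simp
    rw [← two_mul, h2, zero_mul]
  have hS : ∀ S : AddSubgroup F, (1 : F) ∈ S → w ∈ S → S = ⊤ := by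
    intro S h1 h3
    have h4 : ∀ k : ℕ, w ^ k ∈ S ∧ w ^ (k + 1) ∈ S := by
      intro k
      induction k with
      | zero => rw [pow_zero, zero_add, pow_one]; exact ⟨h1, h3⟩
      | succ k ih =>
        refine ⟨ih.2, ?_⟩
        have e : w ^ (k + 1 + 1) = -(w ^ (k + 1) + w ^ k) := by
          have : w ^ (k + 1 + 1) + (w ^ (k + 1) + w ^ k) = w ^ k * (w ^ 2 + w + 1) := by ring
          rw [hw, mul_zero] at this
          exact eq_neg_of_add_eq_zero_left this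
        rw [e]
        exact S.neg_mem (S.add_mem ih.2 ih.1)
    rw [eq_top_iff]
    intro y _
    by_cases hy : y = 0
    · rw [hy]; exact S.zero_mem
    · obtain ⟨k, hk⟩ := hwgen y hy
      rw [← hk]; exact (h4 k).1
  have hAb : (![0, 1, 0] : Fin 3 → F) ∈ AA G φ := by
    rw [mem_AA_iff_RR]
    have k1 : w ∈ RR G ![0, 1, 0] φ := by
      rw [mem_RR]; exact hg3.congr (by ext i; fin_cases i <;> simp) rfl
    have k2 : w + 1 ∈ RR G ![0, 1, 0] φ := by
      rw [mem_RR]; exact hg2.congr (by ext i; fin_cases i <;> simp) rfl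
    apply hS _ _ k1
    have := (RR G ![0, 1, 0] φ).sub_mem k2 k1
    rwa [add_sub_cancel_left] at this
  have hAa : a ∈ AA G φ := by
    rw [mem_AA_iff_RR]
    apply hS
    · rw [mem_RR, one_smul]; exact ht
    · rw [mem_RR]
      have h3 := hg1.add_left (hAb (-w))
      refine h3.congr ?_ rfl
      rw [ha]
      ext i; fin_cases i <;> simp
  have hfull : Full G φ := by
    apply full_of_ker
    intro y hy
    have e : y = y 0 • a + y 1 • ![0, 1, 0] := by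
      rw [hφ] at hy
      have hy2 : y 2 = 0 := by simpa [dotProduct, Fin.sum_univ_three] using hy
      rw [ha]
      ext i
      fin_cases i
      · simp
      · simp
      · simp [hy2]
    rw [e]
    exact (AA G φ).add_mem ((AA G φ).smul_mem _ hAa) ((AA G φ).smul_mem _ hAb)
  have hfull2 : Full G (φ ᵥ* (x : Matrix (Fin 3) (Fin 3) F)) := hfull.conj hxG
  refine top_of_full (by omega) hu huG ?_ hfull2
  rw [hφ, hx, vecMul_T]
  simp [dotProduct, Fin.sum_univ_three]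
  exact hw0

theorem pair_three [Finite F] : Pair F 3 := by
  by_cases h2 : (2 : F) = 0
  · by_cases h4 : Nat.card F = 4
    · exact pair_three_four h4
    · exact pair_three_even h2 h4
  · exact pair_three_odd h2

end Cfsg.Agent.H42.CycGen
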